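import Cfsg.Agent.U6.Orb
import Cfsg.Agent.Orth.Index

/-! The stabiliser of a vector of the short orbit is the orthogonal group of the elliptic form in dimension six. -/

set_option autoImplicit false

namespace CA.U6

open Cfsg Cfsg.Agent Cfsg.Agent.Unit CA.M24 Subgroup Equiv CA.FG CA.Fi QuadraticMap

theorem nonempty_equiv_of_prod {A B : Type*} [Group A] [Group B] [Finite A] [Finite B] {S : Subgroup A}
    (D : Subgroup (A × B)) (h1 : ∀ p ∈ D, p.1 ∈ S) (h2 : ∀ b, ∃ a, (a, b) ∈ D) (h3 : ∀ p ∈ D, p.1 = 1 → p.2 = 1)
    (hc : Nat.card S ≤ Nat.card B) : Nonempty (S ≃* B) := by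
  let f : D →* S := ((MonoidHom.fst A B).comp D.subtype).codRestrict S fun p => h1 _ p.2
  let g : D →* B := (MonoidHom.snd A B).comp D.subtype
  have hf : Function.Injective f := (injective_iff_map_eq_one f).2 fun p e =>
    Subtype.ext (Prod.ext (congrArg Subtype.val e) (h3 _ p.2 (congrArg Subtype.val e)))
  have hg : Function.Surjective g := fun b => (h2 b).elim fun a ha => ⟨⟨_, ha⟩, rfl⟩
  have c1 := Nat.card_le_card_of_injective f hf
  have c2 := Nat.card_le_card_of_surjective g hg
  exact ⟨(MulEquiv.ofBijective f ((Nat.bijective_iff_injective_and_card _).2 ⟨hf, by omega⟩)).symm.trans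
    (MulEquiv.ofBijective g ((Nat.bijective_iff_surjective_and_card _).2 ⟨hg, by omega⟩))⟩

theorem OG_eq_top {F W : Type*} [Field F] [AddCommGroup W] [Module F W] {q : QuadraticForm F W}
    (hq : Orth.Nondeg q) (h5 : 5 ≤ Module.finrank F W) {S : Subgroup (Orth.OG q)}
    (h : ∀ w, q w ≠ 0 → Orth.refl q w ∈ S) (g : Orth.OG q) : g ∈ S := by
  have : FiniteDimensional F W := Module.finite_of_finrank_pos (by omega)
  have key : ∀ u v (hu : q u = 0) (hv : polar q u v = 0), q v ≠ 0 → Orth.sieg u v hu hv ∈ S := fun u v hu hv H => by
    rw [Orth.sieg_eq_refl_mul_refl hu hv H]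
    refine mul_mem (h _ H) (h _ ?_)
    qsimp; simpa [hu, polar_comm q v u, hv] using H
  induction g using Orth.OG.induction hq with
  | h1 => exact one_mem _
  | hr w g hw ih => exact mul_mem (h w hw) ih
  | hs u v hu hv g ih =>
    refine mul_mem ?_ ih
    by_cases H : q v = 0
    · obtain ⟨w, w1, w2, w3⟩ := hq.exists_orth_pair h5 u v
      have h1 : polar q u (v - w) = 0 := by simp [hv, w1]
      rw [Orth.sieg_congr hu hv rfl (sub_add_cancel v w).symm, ← Orth.sieg_mul hu h1 w1]
      exact mul_mem (key _ _ _ _ (by qsimp; simpa [H, w2] using w3)) (key _ _ _ _ w3)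
    · exact key u v hu hv H

abbrev W2 : Type := (Fin 2 → ZMod 2) × (Fin 2 → ZMod 2) × QuadraticAlgebra (ZMod 2) (-1) 1

noncomputable abbrev Q2 : QuadraticForm (ZMod 2) W2 := Orth.hsum 2 (Orth.normQ (-1) 1)

def w2 (n : ℕ) : W2 := (![bt n 0, bt n 1], ![bt n 2, bt n 3], ⟨bt n 4, bt n 5⟩)

def q2 (n : ℕ) : ℕ := pick (nat_lit 0x935f935f935f6ca0) (nat_lit 1) (nat_lit 1) n

theorem w2_xor (m n : ℕ) : w2 (Nat.xor m n) = w2 m + w2 n := by
  simp only [w2, bt_xor, Prod.mk_add_mk, Matrix.add_cons, Matrix.head_cons, Matrix.tail_cons, Matrix.empty_add_empty]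
  rfl

theorem Q_w2 {n : ℕ} (h : n < 64) : Q2 (w2 n) = (q2 n : ℕ) := by
  rw [Orth.hsum_apply, Orth.normQ_apply, QuadraticAlgebra.norm_def]
  revert n
  decide +kernel

theorem exists_w2 (w : W2) : ∃ n < 64, w2 n = w := by
  have key : ∀ a b c d e f : ZMod 2, ∃ n < 64, w2 n = (![a, b], ![c, d], ⟨e, f⟩) := by decide +kernel
  obtain ⟨n, hn, e⟩ := key (w.1 0) (w.1 1) (w.2.1 0) (w.2.1 1) w.2.2.re w.2.2.im
  exact ⟨n, hn, e.trans (Prod.ext (funext fun i => by fin_cases i <;> rfl)
    (Prod.ext (funext fun i => by fin_cases i <;> rfl) rfl))⟩

def rf2 (a x : ℕ) : ℕ := bif' (Nat.beq (q2 (Nat.xor x a)) (q2 x)) (Nat.xor x a) x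

theorem refl_w2 {a x : ℕ} (ha : a < 64) (hx : x < 64) (h : q2 a = 1) :
    (Orth.refl Q2 (w2 a)).1 (w2 x) = w2 (rf2 a x) := by
  have h1 : Nat.xor x a < 64 := Nat.xor_lt_two_pow (n := 6) hx ha
  have h2 : ∀ n, q2 n = 0 ∨ q2 n = 1 := fun n => by have : q2 n < 1 + 1 := land_lt _; omega
  rw [Orth.refl_apply, polar, ← w2_xor, Q_w2 h1, Q_w2 hx, Q_w2 ha, h, Nat.cast_one, div_one, rf2, sub_eq_add_neg, ← neg_smul]
  rcases h2 (Nat.xor x a) with e | e <;> rcases h2 x with e' | e' <;> rw [e, e']
  · rw [show Nat.beq 0 0 = true from rfl, bif'_true, w2_xor]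
    exact congrArg _ ((congrArg (· • w2 a) (by decide)).trans (one_smul _ _))
  · rw [show Nat.beq 0 1 = false from rfl, bif'_false]
    exact add_eq_left.2 ((congrArg (· • w2 a) (by decide)).trans (zero_smul _ _))
  · rw [show Nat.beq 1 0 = false from rfl, bif'_false]
    exact add_eq_left.2 ((congrArg (· • w2 a) (by decide)).trans (zero_smul _ _))
  · rw [show Nat.beq 1 1 = true from rfl, bif'_true, w2_xor]
    exact congrArg _ ((congrArg (· • w2 a) (by decide)).trans (one_smul _ _))

def FT : ℕ := nat_lit 0x71c00000000104000124800000000000000124800104000000000071c000000000000000000000000000000000000000000000000000000000000000000000000000000000000000000000000000000000000000000000000000000000002000080000000a00028002f000bc000000002f000bc000a00028000002000080000000000000000000000000000000002202200000001f01f000000e00e000000000380380000007c07c000000088088000000000000000000000000000000000000000000000000000000000000000000000000000000000000000000000000000000000000000000000000000000000000000000000000000000000000000000000000000000000000000000000000000000000000000000000000002200000000088000003f01800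0000fc060000000001803f000000600fc000002200000000088000000000000000000002000000002000000002800034002800034000000000d000a0000d000a00000000800000000800000000000000000000000000000000000000000000000000000000000000000000000000000000000000000000000000000000000000000000007000007000000000000032c00032c00000000000000030c80030c800000000000001c00001c00000000000000000000000000000000000000000000000000000000000000000000000000000000000000000000000000000000000000000000000000000000000000000000000000000000000000000000000000000000000000000000000000000000000114c0d00033d80031016500000000000000000000000000000000000000000000000000014580c40036cc003401344000000000000000000000000000000000000000000000000000000000000000000000000000000000000000000000000000000000001f0000280320000000000007c0000a00c8000000003202800001f000000000000c80a000007c000000000000000000000a00003f000c0000000000a00003f000c00000000030000fc0000280000000030000fc000028000000000000000000000000000000000000000000000000000000000000000000000000000000000000000000000000000000000000000000001000000001834000001000000001834000000000000000d60000000040000000d600000000400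00000000000000000000000000000000000000000000000000000000000000000000000000000000000000000000000000000000000000000000000000000000000000000000000000000000000000000000000000000000000000000000000000000000002ce408c0033000000000000d8002603ca40000000000000000000000000029f00980036000000000000cc0023039b0000000000000000001202fe0000001202fe00000000000000000000000000038bc0480000038bc04800000000000000000000000000000000000000000000000000000000000000000000000000000000000000000000000000000000000000000000000000000000000000000000000000000000000000000000000000000000000000000000000000000000000000000193800000008c0031000000d0002600000000b70000000000000001c2c0000000980034000000c4002300000000e640000000000000000000000000000000000000000000000000000000000000000000000000000000000000000000000000024000380000e400000160004c000003c00000b0008400000000210002c0000f0000001300058000003900000e000900000900640000b00000000500440000000a4000070084000000002101c00002900000001101400000002c0000190240000000000000000000000000000000000000000000000000000000000000000000000000000000000000000000000000000000000000000000000000000000000000000000000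0000000000000000000000000000000000000000000000000000000000000003800000d03000000003000d000038000000000000000000e00000340c00000000c00340000e0000000000000000000002f000018000c80000032000600000bc000000000000002f000018000c80000032000600000bc000000000000000000000000000000000000000000000000000000000000000000000000000000000000000000000000000000000000000000001200000003fa00000000028fc000000048000000001200000003fa00000000028fc000000048000000000000000000000000000000000000000000000000000000000000000000000000000000000000000000000000000000000000000000000000000000000000000000000000000000000000000000000000000000000000000000000000000000000000b70084003300000000000000000000000000e640900036d80024019380000000000000000000000000cc002101c2c000000000000000001000a7c000000000000001f28040000000001000a7c000000000000001f28040000000000000000000000000000000000000000000000000000000000000000000000000000000000000000000000000000000000000000000000000000000000000000000000000000000000000000000000000000000000000000000000000000000000000000003ca40000000840031000000000000039b00000000900034d0002400000002ce40000000000000c40021000000029f0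0000000000000000000000000000000000000000000000000000000000000000000000000000000000000000000000000026000a40000700000016000000023000b000006400000134c000001900002c0008c000000058000001c000029000980000980f000002c000000050000002303900000e000000011440000000380000e408c000001400000000b00003c0260000000000000000000000000000000000000000000000000000000000000000000000000000000000000000000000000000000000000000000000000000000070208800228001c00000000070208800228001c00000000000000000000000000000000000000000000000000000000000000000000000000000000000000000000000000000000000000000000000000000000000000000000000000000000000000000000000000000000000000000000000000000000000000000000000000000165000000000000000134408400260000000000009000238c00240000000000009800210114c000000000000001458000000000000000000000000000000000000000000000000000000000000000000000000000000000000000000000000003100050000000003400044070000003c000000640000039e40000019000000f0000001c011000d00000000014000c40000c405800000000340130002c0000000a4000e00000002cb0000000038002900000000b0004c0d00000000016031000000000000000000000000000000000000000000000000000000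000000000000000000000000000000000000000000000000000000000000000000000000000000000000000000000000000000000000000000000000000000000000000000000033000000036500000000440a40000000b0000b00000000e3800000002c002c000000029011000000014d80000000cc0000cc0000036580000013000f0000003900000070000001964000001c000000e4000003c0004c0000016d80000033000000000000000000000000000000000000000000000000000000000000000000000000000000000000000000000000000000000cc0036c400340000009800230000000000008400249000210000000000008c0026000000d00031d80033000000000000000000000000000000000000000000000000000000000000000000000000000000000000000000000000000000000000000000000000000000000000000000000000000000000000000000000000000000000000000000000000000000005140140000140000000000140000000000000000000005140000000000000000000005000000000005000005005140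

def ft (n : ℕ) : ℕ := pick FT (nat_lit 6) (nat_lit 63) n

def WL : List (ℕ × List ℕ) := [(5, [63]), (7, [48, 12, 3]), (10, [40, 18, 5]), (11, [1963, 1517, 48, 12, 3]), (13, [33, 20, 10]), (14, [1973, 1530, 48, 12, 3]), (16, [40, 20, 3]), (17, [1914, 1773, 40, 20, 3]), (18, [36, 24, 3]), (19, [1977, 1774, 40, 20, 3]), (20, [1895, 1782, 40, 20, 3]), (22, [1959, 1781, 40, 20, 3]), (24, [34, 20, 9]), (25, [1910, 1529, 48, 12, 3]), (28, [1899, 1518, 48, 12, 3]), (31, [40, 17, 6]), (32, [48, 10, 5]), (33, [1773, 1518, 48, 10, 5]), (34, [48, 9, 6]), (35, [1977, 1910, 48, 10, 5]), (36, [1782, 1529, 48, 10, 5]), (38, [1959, 1899, 48, 10, 5]), (40, [36, 17, 10]), (41, [1895, 1774, 48, 12, 3]), (44, [1914, 1781, 48, 12, 3]), (47, [34, 24, 5]), (48, [33, 18, 12]), (49, [1959, 1907, 40, 18, 5]), (50, [34, 17, 12]), (51, [1963, 1907, 36, 18, 9]), (52, [1977, 1902, 40, 18, 5]), (54, [1973, 1902, 36, 18, 9]), (56, [33, 24, 6]), (57, [1977, 1782, 48, 12, 3]), (60, [1959, 1773, 48, 12, 3]), (63, [36, 18, 9])]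

theorem WL_chk : allL (fun p => band (okW p.2) (force (wH p.2) fun c => band (Nat.beq (app c 63) 63)
    (allP (fun n => force (ft n) fun x => bor (Nat.beq x 0) (force (ft (app c n)) fun y =>
      band (bne' y 0) (Nat.beq (rf2 p.1 x) y))) 12 0))) WL = true := by decide +kernel

theorem WL_chk2 : allR (fun a => bor (Nat.beq (q2 a) 0) (band (Nat.beq (q2 a) 1) (anyL (fun p => Nat.beq p.1 a) WL)))
    64 = true := by decide +kernel

def L36 : List ℕ := [1, 196, 199, 200, 203, 208, 211, 220, 223, 328, 333, 336, 341, 346, 351, 392, 398, 400, 406, 409, 415, 979, 981, 982, 1483, 1485, 1486, 1735, 1741, 1742, 1863, 1867, 1870, 1927, 1931, 1933]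

theorem L36_chk : allR (fun x => anyL (fun m => force (ft m) fun a => anyL (fun n => force (ft n) fun b =>
    band (Nat.beq (Nat.xor a b) x) (band (band (blt' m 4096) (bne' a 0)) (band (blt' n 4096) (bne' b 0)))) L36) L36)
    64 = true := by decide +kernel

instance factW2 : Fact (∀ r : ZMod 2, r ^ 2 ≠ -1 + 1 * r) := ⟨by decide⟩

theorem card_OG2 : Nat.card (Orth.OG Q2) = 51840 := by
  rw [Orth.card_OG_minus, ZMod.card]
  rfl

theorem FS.stab_equiv {H : Type*} [Group H] {Q : Subgroup H} {z : H} {π : H → V} {ρ : H →* L2} (h : FS Q z π ρ)
    (hy : yy ∈ ρ.range) {S : Subgroup H} (hS : ∀ g, g ∈ S ↔ ρ g (vec 63) = vec 63) {Y : Type*} [Group Y]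
    [Finite Y] (θ : H →* Y) (hθ : θ.ker = Q) : Nonempty (S.map θ ≃* Orth.OG Q2) := by
  have := h.finite
  have : Finite (Orth.OG Q2) := Nat.finite_of_card_ne_zero (by rw [card_OG2]; norm_num)
  let M : Submonoid (H × Orth.OG Q2) :=
    { carrier := {p | p.1 ∈ S ∧ ∀ n < 4096, ft n ≠ 0 → ∃ m < 4096, ft m ≠ 0 ∧ ρ p.1 (vec n) = vec m ∧
        p.2.1 (w2 (ft n)) = w2 (ft m)}
      one_mem' := ⟨one_mem _, fun n hn h0 => ⟨n, hn, h0, by simp, rfl⟩⟩
      mul_mem' := fun {p p'} a b => ⟨mul_mem a.1 b.1, fun n hn h0 => by
        obtain ⟨m, hm, h1, e1, e2⟩ := b.2 n hn h0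
        obtain ⟨k, hk, h2, e3, e4⟩ := a.2 m hm h1
        exact ⟨k, hk, h2, by rw [Prod.fst_mul, map_mul, LinearEquiv.mul_apply, e1, e3],
          by rw [Prod.snd_mul, Orth.OG.mul_apply, e2, e4]⟩⟩ }
  let D : Subgroup (H × Orth.OG Q2) := { M with
    inv_mem' := fun {p} hp => Submonoid.powers_le.2 hp (mem_powers_iff_mem_zpowers.2 (inv_mem (mem_zpowers p))) }
  refine nonempty_equiv_of_prod (D.map (θ.prodMap (MonoidHom.id _))) ?_ (fun b => ?_) ?_ ?_
  · rintro _ ⟨p, hp, rfl⟩
    exact mem_map_of_mem θ hp.1
  · obtain ⟨p, hp, rfl⟩ := OG_eq_top (S := D.map (MonoidHom.snd _ _)) (Orth.Nondeg.hsum (Orth.nondeg_normQ ⟨⟨0, 1⟩, by decide⟩) 2)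
      (by rw [Orth.finrank_hsum_space, QuadraticAlgebra.finrank_eq_two]; norm_num) (fun w hw => by
        obtain ⟨a, ha, rfl⟩ := exists_w2 w
        have h1 := allR_eq_true.1 WL_chk2 a ha
        simp only [bor_eq_true, band_eq_true, beq_iff, anyL_eq_true] at h1
        obtain ⟨h2, p, hp, rfl⟩ := h1.resolve_left fun e => hw (by rw [Q_w2 ha, e, Nat.cast_zero])
        have h3 := allL_eq_true.1 WL_chk p hp
        simp only [band_eq_true, force_eq, beq_iff] at h3
        obtain ⟨_, ⟨g, rfl⟩, r⟩ := inH_wH h.le_range hy h3.1
        refine ⟨(g, _), ⟨(hS g).2 (r.apply (by norm_num) h3.2.1), fun n hn h0 => ?_⟩, rfl⟩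
        have h4 := allP_zero h3.2.2 n hn
        simp only [bor_eq_true, band_eq_true, beq_iff, bne'_eq_true, force_eq] at h4
        replace h4 := h4.resolve_left h0
        exact ⟨_, app_lt .., h4.1, r n hn, by rw [← h4.2]; exact refl_w2 ha (land_lt _) h2⟩) b
    exact ⟨_, p, hp, rfl⟩
  · rintro _ ⟨p, hp, rfl⟩ e
    have h1 : ρ p.1 = 1 := h.mem_iff.1 (hθ.le e)
    have h2 : ∀ n < 4096, ft n ≠ 0 → p.2.1 (w2 (ft n)) = w2 (ft n) := fun n hn h0 => by
      obtain ⟨m, hm, -, e1, e2⟩ := hp.2 n hn h0
      rw [h1] at e1
      rw [e2, vec_inj hn hm e1]
    refine Orth.OG.ext fun w => ?_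
    obtain ⟨x, hx, rfl⟩ := exists_w2 w
    have h3 := allR_eq_true.1 L36_chk x hx
    simp only [anyL_eq_true, force_eq, band_eq_true, beq_iff, blt'_eq_true, bne'_eq_true] at h3
    obtain ⟨m, -, n, -, rfl, a, b⟩ := h3
    show p.2.1 _ = w2 _
    rw [w2_xor, map_add, h2 m a.1 a.2, h2 n b.1 b.2]
  · rw [card_OG2, ← h.card_stab5 vec63_mem, ← card_map_of_injective (subtype_injective ρ.range),
      show Nat.card (S.map θ) = Nat.card (S.map ρ) from Nat.eq_of_mul_eq_mul_right Nat.card_pos
        ((hθ ▸ card_map_mul_card_inf_ker S θ).trans (h.card_map S).symm)]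
    refine card_le_of_le ?_
    rintro _ ⟨g, hg, rfl⟩
    exact ⟨⟨_, g, rfl⟩, (hS g).1 hg, rfl⟩

theorem realizeEqns_U6E6 : True := by
  have := @CA.U6.ft.eq_1
  have := @CA.U6.ft.eq_def
  have := @CA.U6.ft.congr_simp
  have := @CA.U6.rf2.eq_1
  have := @CA.U6.rf2.eq_def
  have := @CA.U6.rf2.congr_simp
  have := @CA.U6.WL.eq_1
  have := @CA.U6.WL.eq_def
  have := @CA.U6.WL.congr_simp
  have := @CA.U6.q2.eq_1
  have := @CA.U6.q2.eq_def
  have := @CA.U6.q2.congr_simp
  have := @CA.U6.FT.eq_1
  have := @CA.U6.FT.eq_def
  have := @CA.U6.FT.congr_simp
  have := @CA.U6.w2.eq_1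
  have := @CA.U6.w2.eq_def
  have := @CA.U6.w2.congr_simp
  have := @CA.U6.W2.eq_1
  have := @CA.U6.W2.eq_def
  have := @CA.U6.W2.congr_simp
  have := @CA.U6.Q2.eq_1
  have := @CA.U6.Q2.eq_def
  have := @CA.U6.Q2.congr_simp
  have := @CA.U6.L36.eq_1
  have := @CA.U6.L36.eq_def
  have := @CA.U6.L36.congr_simp
  trivial

end CA.U6
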