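import Cfsg.Agent.U6.Fus
import Cfsg.Agent.M24.Todd

/-! Groups of large Fischer type: the normalizer of the Thompson subgroup. -/

set_option autoImplicit false

namespace CA.U6

open Cfsg Cfsg.Agent Cfsg.Agent.Unit CA.M24 Subgroup Equiv CA.FG CA.Fi
open scoped Pointwise symmDiff

def sg (m : ℕ) : ℕ := xorSel [0, 7, 56, 127, 129, 258, 547, 142, 1098, 639, 255, 536, 176, 1937, 296, 1087, 1108, 277, 1954, 1121, 2047, 1932, 516, 383] m 0

def pb (n : ℕ) : ℕ := xorSel [1049, 3164, 2118, 147, 2714, 2572, 15, 1032, 3197, 520, 3521] n 0

def pq (n : ℕ) : ℕ := pick (nat_lit 0xa00000000000000002810000000000a8c0000000001a3000000000000000000000000000000000000000090c0000000000000000000000000000000000000000000000000000a08000000000000000000000000000000000000000000002a20000000000000000000000000688000000090400002400000000000000000024200000001a100000000006800000000002a0a84000000000000000000000000283002840000000000000000000000000aa800a1c00001aa000000000000000000000000000000000000000092800000000000000000000000000000000a30000000000000000000000000000000000000000000002ac00000000000000000000000000000000000002470000000000000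0000000910006b00069c0000000000000000000000000000024c001a400000a900000000000000000000000002a70028a00000a140000000000000000000000bd40000000002ed0000000291000000000000000000000000000000bc8000000000000a3800000000000000000000000000000000000000000000000000000000000000000000000073400944000000000000000000000000000000000000000000002ae0000000245000000000000000ac40000000000006940000000002a5000000024e00000000000022d00000002f40000000000000009ac00818000000000000000000000000000000004180000000b4c00000000000000000000000000000000000000000000168002d0002c80020b0000000000000000000000266001e90000000000b3c0000000000004a0000000000000000000000082400000007ac0000000000000000000269001e600000000000000000000000000000000000000000000000000000000000000000000000000000000b5000000000000000000aa40000000001a9000000000000000a2c000000000000000000000092686000000000000000000000000000000000000000000000000000000000000000000000000000000000024b000000000000000001a600000a9800000000000000000002d20000000000000000000000000000000000000000b36ab00000000000000000000000006aed500000000000000091a89000000020e0000000000000000027100000000000000000000000000000000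00000000995c8000008a000000000000000000002050000000000000000000000000000009b9050000000000000008c2ef0000079400000000000000000ba00000000000000000000000bc22f0000000000000000000000000002f30000000000000007b8000000000000000000000000000000000000000000000000000000000000000000000188000000000000000000000000099c00000000000000000000000020c0000000264000000000000207000000000081000000009b00000000000004100000000000000010700000001ea001e400000000000000000000520000000079c0000000000008280000000000000000000000000000026a000000000000000000000000000000000007b0000000000000000000000000000000000000000000000000000000000000000000000102000000000000202000000000000261000000000098000000000000000000988000000000200804000000000000404000010000000000000000000000001e3780000000000000001e10000040c000000000000000000000080c00000000000000000000000000000263000000000000000000000000000000000000000000000000000000078800000000000000000000000000000000000000025000000000000026d00000acc0000000002480000000000000000000000000000006a000002b00000000000000000000000000000000000000000002a8834009c8000028f0000000000000000000000000a2000abc0000000001ed00000a4000000000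00000000000000000000029393c0000000000000000000000000000000000000000000000000000000000000000000000000000049400bd800000000000000000000000000000000000000022900000bac0000000000000000000000002e6000000000072400000000000000000000000000000000000000000000000000000000000000000000000000000002260000000000001cb00000002ce00000000000000000000000003140000000000000016500000000000000000000b4400000008ac007180000000002c50000000000002e90012400000b28000000000000000000000049c00000000000000000000005a800000000000000000000000014600000000000000000000000000000062400000000000000000000000000000000000000000000000000000000000000002cc00000000000000039800000000018b0000000000000c40000000000000000000059000001670000061800000000000000000002c70000000000b100000000001494800000000b0c0000121000000000000000000000000000000000000000058c0000000000000000000000000c3000000000000000000000000000000000000000000000000004880000000000000000000000002c20000000000000000000000000000000000000000000000000000000000c1300000016258400000003080000160000000000000000000000000000000000000000000000002c0b040000123002e4514000000000000000000000000000b9c0000000000000022a00000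000000000000000000000000000000000000000072800000000000000000bb00000000000000000000000000000000000000000000000000000000000000000000001850000000000000000000071000001c78b0000000000000000000000089c00001cc0000000224000000000000000000e50000000000000000000029000002eab800028c0000000002e10000000000000000000000000000000022300000000000000000000000000000000000000000000070c0000000000000000000000000000000000000b88000000000000000000000000000000a20000000000000000000000000704008880000000001c00000000000000000000000000000000000000000000008800000221001c2000000000000000000000000028400000a0002e35008300000000000014100000000000000038c000000000000000000000000000000000000000000000000000000000000000000000000000000000060c000000000000000005080000000000000000000000000000000020800604e200000000000018000000000000000000000000000000000000000000000000000000000000000000000000000000000000e00000000000385820008100000000002014318144b9400b240000061000007a000ad00051c000028d0000083ef1000005a4000000000000000000026fa49260000000000bb8000000000000000006280000000000000000018800000000000000000105878b8005980000040000009c0009340061000002b2000009a1c500000b180000000000000000000208ab6cb0000000000894000000000000000003900000000000000000008000000000000000000)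 (nat_lit 10) (nat_lit 1023) n

theorem sg_lt (m : ℕ) : sg m < 2048 :=
  xorSel_ind (· < 2048) (by norm_num) (fun _ _ => Nat.xor_lt_two_pow (n := 11)) _ (by decide) _ _

theorem sg_xor (m n : ℕ) : sg (Nat.xor m n) = Nat.xor (sg m) (sg n) := xorSel_xor ..

theorem sg_chk : allP (fun k => band (force (cw k) fun c => band (Nat.beq (c % 4096) k) (Nat.beq (sg c) 0))
    (force (4096 * k) fun m => bor (Nat.beq k 0) (bor (bne' (sg m) 0) (Nat.beq (pcnt m % 2) 1)))) 12 0 = true := by
  decide +kernel

theorem pb_chk : allP (fun n => band (force (pb n) fun m => band (Nat.beq (sg m) n) (band (blt' m (2 ^ 24))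
    (Nat.beq (pcnt m % 2) 0))) (bimp (yq 2 n) (force (pq n % 32) fun p => force (pq n / 32) fun q => band (blt' p q)
      (band (blt' q 24) (Nat.beq (sg (Nat.xor (Nat.shiftLeft 1 p) (Nat.shiftLeft 1 q))) n))))) 11 0 = true := by
  decide +kernel

theorem duad_chk : allR (fun p => allR (fun q => bor (Nat.beq p q)
    (yq 2 (sg (Nat.xor (Nat.shiftLeft 1 p) (Nat.shiftLeft 1 q))))) 24) 24 = true := by decide +kernel

theorem sg_eq_zero {T : Finset Pt} (hT : Even T.card) : sg (mask T) = 0 ↔ T ∈ Cs := by
  have h := allP_zero sg_chk
  simp only [force_eq, band_eq_true, bor_eq_true, beq_iff, bne'_eq_true] at h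
  have h1 : ∀ T ∈ Cs, sg (mask T) = 0 := fun T hT => by
    obtain ⟨k, hk, e⟩ := exists_cw hT
    rw [← e, (h k hk).1.2]
  refine ⟨fun H => ?_, h1 T⟩
  have hk := Nat.mod_lt (mask T) (show 0 < 4096 by norm_num)
  obtain ⟨d, hd, e⟩ := inC_cw (mask T % 4096)
  have h2 : mask (T ∆ d) % 4096 = 0 := by
    rw [mask_symmDiff, e]
    refine (Nat.xor_mod_two_pow (n := 12)).trans ?_
    erw [(h _ hk).1.1, Nat.xor_self]
  have h3 := mask_lt (T ∆ d)
  have h4 := (h (mask (T ∆ d) / 4096) (by omega)).2
  have h5 := card_symmDiff_add T d
  have h6 := card_of_mem_Cs hd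
  rw [show 4096 * (mask (T ∆ d) / 4096) = mask (T ∆ d) by omega, pcnt_mask, mask_symmDiff T d, sg_xor, H, h1 d hd,
    ← mask_symmDiff] at h4
  rw [Nat.even_iff] at hT
  rcases h4 with h4 | h4 | h4
  · rwa [symmDiff_eq_bot.1 (mask_inj (show mask (T ∆ d) = mask ∅ by rw [mask_empty]; omega))]
  · exact (h4 rfl).elim
  · omega

namespace GX

variable {H G : Type*} [Group H] [Group G] [Finite G] {i : H →* G} {Q : Subgroup H} {z : H} {π : H → V} {ρ : H →* L2}
  {x : H} {s : V → H} {τ : ℕ → H} (h : GX i Q z π ρ x s τ)
include h

/-- the cocode coordinates -/
def ψ (_ : GX i Q z π ρ x s τ) (T : Finset Pt) : G := i (en z s τ (tw 2 (sg (mask T))))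

theorem todd : Todd h.ψ := by
  have h1 : ∀ S T, h.ψ (S ∆ T) = h.ψ S * h.ψ T := fun S T => by
    rw [ψ, mask_symmDiff, sg_xor, h.en_mul (by norm_num) h.τ_eps (sg_lt _) (sg_lt _), map_mul]; rfl
  refine ⟨h1, fun T hT => ?_⟩
  have h0 : h.ψ ∅ = 1 := by simpa using h1 ∅ ∅
  rw [← sg_eq_zero hT, ← h0]
  refine ⟨fun e => ?_, fun e => by rw [ψ, ψ, e, mask_empty]; rfl⟩
  have := congrArg (tw 2) (h.en_inj (tw_lt (by norm_num) (sg_lt _)) (tw_lt (by norm_num) (sg_lt _)) (h.gs.inj e))
  rwa [(tw_spec (by norm_num) (sg_lt _)).2.2.1, (tw_spec (by norm_num) (sg_lt _)).2.2.1, mask_empty] at this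

omit [Finite G] in
theorem exists_tw {a : G} (ha : a ∈ h.A) : ∃ n < 2048, i (en z s τ (tw 2 n)) = a := by
  obtain ⟨a, ha, rfl⟩ := ha
  obtain ⟨n, hn, rfl⟩ := h.exists_en ha
  exact ⟨_, tw_lt (j := 2) (by norm_num) hn, by rw [(tw_spec (by norm_num) hn).2.2.1]⟩

omit [Finite G] in
theorem ψ_mem (T : Finset Pt) : h.ψ T ∈ h.A := mem_map_of_mem i (h.en_mem (tw_lt (by norm_num) (sg_lt _)))

omit [Finite G] in
theorem mem_A_iff (a : G) : a ∈ h.A ↔ ∃ T : Finset Pt, Even T.card ∧ h.ψ T = a := by
  refine ⟨fun ha => ?_, fun ⟨T, _, e⟩ => e ▸ h.ψ_mem T⟩
  obtain ⟨n, hn, rfl⟩ := h.exists_tw ha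
  have := (band_eq_true.1 (allP_zero pb_chk n hn)).1
  simp only [force_eq, band_eq_true, beq_iff, blt'_eq_true] at this
  exact ⟨unmask (pb n), by rw [card_unmask this.2.1, Nat.even_iff, this.2.2], by rw [ψ, mask_unmask this.2.1, this.1]⟩

theorem duad_iff {a : G} : a ∈ h.A ∧ a ≠ 1 ∧ ¬ IsConj (i z) a ↔ ∃ D : Finset Pt, D.card = 2 ∧ h.ψ D = a := by
  refine ⟨fun ⟨ha, H⟩ => ?_, ?_⟩
  · obtain ⟨n, hn, rfl⟩ := h.exists_tw ha
    have := bimp_eq_true.1 (band_eq_true.1 (allP_zero pb_chk n hn)).2 ((h.y_iff (tw_lt (by norm_num) hn)).1 H)
    simp only [force_eq, band_eq_true, beq_iff, blt'_eq_true] at this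
    obtain ⟨h1, h2, h3⟩ := this
    have : pt (pq n % 32) ≠ pt (pq n / 32) := fun e => h1.ne (pt_inj (by omega) h2 e)
    refine ⟨_, Finset.card_pair this, ?_⟩
    rw [← pair_eq this, ψ, mask_symmDiff, mask_singleton, mask_singleton, idx_pt h2, idx_pt (by omega), h3]
  · rintro ⟨D, hD, rfl⟩
    obtain ⟨p, q, e, rfl⟩ := Finset.card_eq_two.1 hD
    refine ⟨h.ψ_mem _, (h.y_iff (tw_lt (by norm_num) (sg_lt _))).2 ?_⟩
    rw [← pair_eq e, mask_symmDiff, mask_singleton, mask_singleton]
    exact (bor_eq_true.1 (allR_eq_true.1 (allR_eq_true.1 duad_chk _ (idx_lt p)) _ (idx_lt q))).resolve_left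
      fun H => e (idx_inj (beq_iff.1 H))

theorem card_M : 1771 * (34560 * 2 ^ 13) ≤ Nat.card (normalizer (h.A : Set G)) := by
  rw [← ncard_conj_mul _ (i z), h.orbit_z, h.card_Z]
  refine Nat.mul_le_mul_left _ (le_trans ?_ (card_le_of_le (H := ((R0 ⊓ ND).comap ρ).map i)
    (le_inf ?_ (h.gs.range_eq ▸ map_le_range _ _))))
  · rw [card_map_of_injective h.gs.inj, ← h.card_map ((R0 ⊓ ND).comap ρ),
      map_comap_eq_self (inf_le_left.trans (h.R0_le h.hy)), inf_eq_left.2 (h.kerρ.ge.trans (ker_le_comap ρ _)), h.card_Q]
    exact Nat.mul_le_mul_right _ card_ND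
  · exact (map_norm_iff_of_inj h.gs.inj).2 (norm_cent (le_normalizer_iff.2 fun g hg y hy =>
      ⟨h.conj_mem g hy.1, h.act g hy.1 ▸ hg.2 _ hy.2⟩))

theorem exists_θ : ∃ θ : normalizer (h.A : Set G) →* M24, Function.Surjective θ ∧ θ.ker = h.A.subgroupOf _ ∧
    ∀ m : normalizer (h.A : Set G), ∀ T : Finset Pt, Even T.card →
      m * h.ψ T * (m : G)⁻¹ = h.ψ ((θ m : Perm Pt) • T) := by
  obtain ⟨θ, h1, h2⟩ := h.todd.exists_hom (M := normalizer (h.A : Set G)) h.mem_A_iff (fun _ => h.mem_A)
    fun m hm D hD => by
      obtain ⟨a, b, c⟩ := h.duad_iff.2 ⟨D, hD, rfl⟩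
      obtain ⟨D', e⟩ := h.duad_iff.1 ⟨conj_mem_of_mem_norm hm a, mt conj_eq_one_iff.1 b,
        fun H => c (H.trans (isConj_iff.2 ⟨m, rfl⟩).symm)⟩
      exact ⟨D', e.1, e.2.symm⟩
  refine ⟨θ, MonoidHom.range_eq_top.1 (eq_top_of_le_card _ ?_), h1, h2⟩
  have h3 := θ.ker.card_mul_index
  have h4 := h.card_M
  rw [index_ker, congrArg (fun X : Subgroup _ => Nat.card X) h1,
    Nat.card_congr (subgroupOfEquivOfLe le_normalizer).toEquiv, h.card_A] at h3
  rw [card_M24]
  omega

end GX

theorem realizeEqns_U6Mat : True := by
  have := @CA.U6.pq.eq_1
  have := @CA.U6.pq.eq_def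
  have := @CA.U6.pq.congr_simp
  have := @CA.U6.sg.eq_1
  have := @CA.U6.sg.eq_def
  have := @CA.U6.sg.congr_simp
  have := @CA.U6.GX.ψ.eq_1.{0,0}
  have := @CA.U6.GX.ψ.eq_def.{0,0}
  have := @CA.U6.GX.ψ.congr_simp.{0,0}
  have := @CA.U6.pb.eq_1
  have := @CA.U6.pb.eq_def
  have := @CA.U6.pb.congr_simp
  trivial

end CA.U6
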