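import Cfsg.Agent.U6.Code

/-! Monomial unitary matrices of degree six over the field with four elements. -/

set_option autoImplicit false

namespace CA.U6

open Cfsg.Agent.Unit CA.M24 Subgroup Equiv

abbrev UU : Type := UG hh

theorem unit_norm (c : F4ˣ) : (c : F4) * star (c : F4) = 1 := fq4.norm_one c.ne_zero

/-- the cube root of unity as a unit -/
def omU : F4ˣ := ⟨om4, om4 * om4, by decide, by decide⟩

theorem units_cases : ∀ c : F4ˣ, c = 1 ∨ c = omU ∨ c = omU⁻¹ := by decide

theorem card_units : Nat.card F4ˣ = 3 := fq4.card_units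

instance finiteL2 : Finite L2 := Finite.of_injective (fun g : L2 => (g : V → V)) DFunLike.coe_injective

instance finiteUU : Finite UU :=
  Finite.of_injective (fun g : UU => (g.1 : V → V)) fun _ _ h => UG.ext (congrFun h)

def dgL (d : Fin 6 → F4) : V →ₗ[F4] V where
  toFun x i := d i * x i
  map_add' x y := funext fun i => mul_add ..
  map_smul' c x := funext fun i => mul_left_comm ..

theorem dgL_apply (d : Fin 6 → F4) (x : V) (i : Fin 6) : dgL d x i = d i * x i := rfl

/-- diagonal matrices -/
def dg : (Fin 6 → F4ˣ) →* UU :=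
  MonoidHom.mk' (fun d => mkUG (dgL fun i => d i) (dgL fun i => ((d i)⁻¹ : F4ˣ))
    (fun x => funext fun i => Units.mul_inv_cancel_left ..)
    (fun x => funext fun i => Units.inv_mul_cancel_left ..)
    (fun x y => by
      simp only [std_apply, dgL_apply, star_mul']
      exact Finset.sum_congr rfl fun i _ => by
        linear_combination x i * star (y i) * unit_norm (d i)))
    fun d e => UG.ext fun x => funext fun i => mul_assoc (d i : F4) (e i) (x i)

theorem dg_apply (d : Fin 6 → F4ˣ) (x : V) (i : Fin 6) : (dg d).1 x i = d i * x i := rfl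

theorem udet_dg (d : Fin 6 → F4ˣ) : udet hh (dg d) = ∏ i, d i := by
  ext1
  rw [coe_udet, show (dg d).1.toLinearMap = Matrix.toLin' (Matrix.diagonal fun i => (d i : F4)) from
    LinearMap.ext fun x => funext fun i => by
      rw [Matrix.toLin'_apply, Matrix.mulVec_diagonal]; rfl,
    LinearMap.det_toLin', Matrix.det_diagonal, Units.coe_prod]

theorem dg_injective : Function.Injective dg := fun d e h => funext fun i => Units.ext <| by
  simpa [dg_apply] using congrArg (fun g : UU => g.1 1 i) h

/-- permutation matrices -/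
def pm : Perm (Fin 6) →* UU :=
  MonoidHom.mk' (fun π => ⟨LinearEquiv.funCongrLeft F4 F4 π⁻¹, fun x y => by
    simp only [std_apply]
    exact Equiv.sum_comp π⁻¹ fun i => x i * star (y i)⟩)
    fun π τ => UG.ext fun x => rfl

theorem pm_apply (π : Perm (Fin 6)) (x : V) (i : Fin 6) : (pm π).1 x i = x (π⁻¹ i) := rfl

theorem udet_pm (π : Perm (Fin 6)) : udet hh (pm π) = 1 := by
  have key : ∀ c : F4ˣ, c * c = 1 → c = 1 := by decide
  induction π using Perm.swap_induction_on with
  | one => simp
  | swap_mul f x y _ ih =>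
    rw [map_mul, map_mul, ih, mul_one]
    exact key _ (by rw [← map_mul, ← map_mul, swap_mul_self, map_one, map_one])

theorem pm_dg (π : Perm (Fin 6)) (d : Fin 6 → F4ˣ) : pm π * dg d = dg (d ∘ ⇑π⁻¹) * pm π :=
  UG.ext fun x => funext fun i => by simp only [UG.mul_apply, pm_apply, dg_apply, Function.comp]

theorem pm_single (π : Perm (Fin 6)) (i : Fin 6) (c : F4) :
    (pm π).1 (Pi.single i c) = Pi.single (π i) c := by
  funext j
  simp only [pm_apply, Pi.single_apply, Perm.inv_eq_iff_eq]

theorem dg_single (d : Fin 6 → F4ˣ) (i : Fin 6) (c : F4) :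
    (dg d).1 (Pi.single i c) = Pi.single i (d i * c) := by
  funext j
  by_cases h : j = i <;> simp [dg_apply, h]

theorem mon_inj {d e : Fin 6 → F4ˣ} {π τ : Perm (Fin 6)} (h : dg d * pm π = dg e * pm τ) :
    d = e ∧ π = τ := by
  have : π = τ := Equiv.ext fun i => by
    have := congrArg (fun g : UU => g.1 (Pi.single i 1) (π i)) h
    simp only [UG.mul_apply, pm_single, dg_single, Pi.single_apply, if_true, mul_one] at this
    by_contra hne
    exact (d _).ne_zero (this.trans (if_neg hne))
  subst this
  exact ⟨dg_injective (mul_right_cancel h), rfl⟩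

theorem pm_injective : Function.Injective pm := fun π τ h =>
  (mon_inj (d := 1) (e := 1) (by rw [h])).2

theorem UU_ext {g k : UU} (h : ∀ i, g.1 (Pi.single i 1) = k.1 (Pi.single i 1)) : g = k :=
  Subtype.ext (LinearEquiv.toLinearMap_injective ((Pi.basisFun F4 (Fin 6)).ext fun i => by
    simpa using h i))

/-- monomial matrices of determinant one over a group of permutations -/
def Mon (C : Subgroup (Perm (Fin 6))) : Subgroup UU where
  carrier := {g | ∃ d, ∏ i, d i = 1 ∧ ∃ π ∈ C, g = dg d * pm π}
  one_mem' := ⟨1, by simp, 1, one_mem _, by simp⟩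
  mul_mem' := by
    rintro _ _ ⟨d, hd, π, hπ, rfl⟩ ⟨e, he, τ, hτ, rfl⟩
    refine ⟨d * e ∘ ⇑π⁻¹, ?_, π * τ, mul_mem hπ hτ, ?_⟩
    · simp only [Pi.mul_apply, Finset.prod_mul_distrib, hd, one_mul]
      exact (Equiv.prod_comp π⁻¹ e).trans he
    · rw [map_mul, map_mul, mul_assoc, ← mul_assoc (pm π), pm_dg]; simp only [mul_assoc]
  inv_mem' := by
    rintro _ ⟨d, hd, π, hπ, rfl⟩
    refine ⟨d⁻¹ ∘ ⇑π⁻¹⁻¹, ?_, π⁻¹, inv_mem hπ, ?_⟩
    · exact (Equiv.prod_comp π⁻¹⁻¹ d⁻¹).trans (by simp [hd])
    · rw [mul_inv_rev, ← map_inv, ← map_inv, pm_dg]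

theorem dg_mem {C : Subgroup (Perm (Fin 6))} {d : Fin 6 → F4ˣ} (h : ∏ i, d i = 1) : dg d ∈ Mon C :=
  ⟨d, h, 1, one_mem _, by simp⟩

theorem pm_mem {C : Subgroup (Perm (Fin 6))} {π : Perm (Fin 6)} (h : π ∈ C) : pm π ∈ Mon C :=
  ⟨1, by simp, π, h, by simp⟩

theorem Mon_mono {C C' : Subgroup (Perm (Fin 6))} (h : C ≤ C') : Mon C ≤ Mon C' := by
  rintro _ ⟨d, hd, π, hπ, rfl⟩
  exact ⟨d, hd, π, h hπ, rfl⟩

theorem Mon_le {C : Subgroup (Perm (Fin 6))} {K : Subgroup UU} (h1 : ∀ d, ∏ i, d i = 1 → dg d ∈ K)
    (h2 : ∀ π ∈ C, pm π ∈ K) : Mon C ≤ K := by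
  rintro _ ⟨d, hd, π, hπ, rfl⟩
  exact mul_mem (h1 d hd) (h2 π hπ)

theorem mem_Mon_bot {g : UU} : g ∈ Mon ⊥ ↔ ∃ d, ∏ i, d i = 1 ∧ g = dg d :=
  ⟨fun ⟨d, hd, π, hπ, e⟩ => ⟨d, hd, by rw [e, mem_bot.1 hπ, map_one, mul_one]⟩,
    fun ⟨_, hd, e⟩ => e ▸ dg_mem hd⟩

theorem Mon_le_SUG (C : Subgroup (Perm (Fin 6))) : Mon C ≤ SUG hh :=
  Mon_le (fun d hd => (udet_dg d).trans hd) fun π _ => udet_pm π

theorem card_det_one : Nat.card {d : Fin 6 → F4ˣ // ∏ i, d i = 1} = 243 := by
  let f : (Fin 6 → F4ˣ) →* F4ˣ := MonoidHom.mk' (fun d => ∏ i, d i) fun _ _ => Finset.prod_mul_distrib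
  have h1 : f.range = ⊤ := MonoidHom.range_eq_top.2 fun c => ⟨Pi.mulSingle 0 c, Fintype.prod_pi_mulSingle' (0 : Fin 6) c⟩
  have h2 := f.ker.card_mul_index
  rw [index_ker, h1, card_top, Nat.card_pi, Finset.prod_const, card_units] at h2
  change Nat.card f.ker = _
  simp only [Finset.card_univ, Fintype.card_fin] at h2
  omega

theorem card_Mon (C : Subgroup (Perm (Fin 6))) : Nat.card (Mon C) = 243 * Nat.card C := by
  rw [← card_det_one, ← Nat.card_prod]
  refine (Nat.card_eq_of_bijective (fun p : {d : Fin 6 → F4ˣ // ∏ i, d i = 1} × C =>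
    (⟨dg p.1.1 * pm p.2.1, p.1.1, p.1.2, p.2.1, p.2.2, rfl⟩ : Mon C)) ⟨?_, ?_⟩).symm
  · intro p q h
    have := mon_inj (congrArg Subtype.val h)
    exact Prod.ext (Subtype.ext this.1) (Subtype.ext this.2)
  · rintro ⟨_, d, hd, π, hπ, rfl⟩
    exact ⟨(⟨d, hd⟩, ⟨π, hπ⟩), rfl⟩

/-- a common eigenvector of the diagonal group has weight one -/
theorem eq_of_eigen {w : V} (h : ∀ d, ∏ i, d i = 1 → ∃ c : F4, (dg d).1 w = c • w) {j k : Fin 6}
    (hj : w j ≠ 0) (hk : w k ≠ 0) : j = k := by
  by_contra hne
  obtain ⟨c, e⟩ := h (Pi.mulSingle j omU * Pi.mulSingle k omU⁻¹) (by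
    simp only [Pi.mul_apply, Finset.prod_mul_distrib, Fintype.prod_pi_mulSingle', mul_inv_cancel])
  have h1 := congrFun e j
  have h2 := congrFun e k
  simp only [dg_apply, Pi.mul_apply, Pi.mulSingle_eq_same, Pi.mulSingle_eq_of_ne hne,
    Pi.mulSingle_eq_of_ne (Ne.symm hne), mul_one, one_mul, Pi.smul_apply, smul_eq_mul] at h1 h2
  exact absurd ((mul_right_cancel₀ hj h1).trans (mul_right_cancel₀ hk h2).symm) (by decide)

theorem exists_mon {g : UU} (hg : ∀ a ∈ Mon ⊥, g⁻¹ * a * g ∈ Mon ⊥) : ∃ d π, g = dg d * pm π := by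
  have h1 : ∀ i, ∃ j, ∃ c : F4ˣ, g.1 (Pi.single i 1) = Pi.single j (c : F4) := fun i => by
    obtain ⟨j, hj⟩ := Function.ne_iff.1 (show g.1 (Pi.single i 1) ≠ 0 by simp)
    refine ⟨j, Units.mk0 _ hj, funext fun k => ?_⟩
    by_cases hk : k = j
    · simp [hk]
    · rw [Pi.single_eq_of_ne hk]
      by_contra h0
      refine hk (eq_of_eigen (fun d hd => ?_) h0 hj)
      obtain ⟨e, -, he⟩ := mem_Mon_bot.1 (hg _ (dg_mem hd))
      refine ⟨e i, ?_⟩
      rw [← UG.mul_apply, show dg d * g = g * dg e by rw [← he]; group, UG.mul_apply, dg_single,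
        ← map_smul, ← Pi.single_smul, smul_eq_mul]
  choose f c h using h1
  have hf : Function.Injective f := fun i j e => by
    have : g.1 (Pi.single i (c j : F4)) = g.1 (Pi.single j (c i : F4)) := by
      rw [← mul_one (c j : F4), ← mul_one (c i : F4), ← smul_eq_mul, ← smul_eq_mul, Pi.single_smul,
        Pi.single_smul, map_smul, map_smul, h, h, e, ← Pi.single_smul, ← Pi.single_smul, smul_eq_mul,
        smul_eq_mul, mul_comm]
    by_contra hne
    simpa [Pi.single_eq_of_ne hne] using congrFun (g.1.injective this) i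
  let π : Perm (Fin 6) := Equiv.ofBijective f (Finite.injective_iff_bijective.1 hf)
  refine ⟨c ∘ ⇑π⁻¹, π, UU_ext fun i => ?_⟩
  rw [h, UG.mul_apply, pm_single, dg_single, mul_one, Function.comp, Perm.inv_def, symm_apply_apply]
  rfl

/-- scalars -/
def sc : F4ˣ →* UU := dg.comp (Pi.constMonoidHom _ _)

theorem sc_apply (c : F4ˣ) (x : V) : (sc c).1 x = (c : F4) • x := funext fun i => dg_apply _ x i

theorem sc_comm (c : F4ˣ) (g : UU) : g * sc c = sc c * g :=
  UG.ext fun x => by simp only [UG.mul_apply, sc_apply, map_smul]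

theorem sc_injective : Function.Injective sc := fun c d h => congrFun (dg_injective h) 0

theorem sc_mem (c : F4ˣ) (C : Subgroup (Perm (Fin 6))) : sc c ∈ Mon C :=
  dg_mem (by revert c; decide)

/-- the centraliser of the diagonal group -/
theorem exists_dg_of_comm {g : UU} (hg : ∀ d, ∏ i, d i = 1 → g * dg d = dg d * g) : ∃ d, g = dg d := by
  obtain ⟨d, π, rfl⟩ := exists_mon (g := g) fun a ha => by
    obtain ⟨d, hd, rfl⟩ := mem_Mon_bot.1 ha
    rwa [mul_assoc, ← hg d hd, inv_mul_cancel_left]
  suffices π = 1 by simp [this]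
  have key : ∀ e : Fin 6 → F4ˣ, ∏ i, e i = 1 → e ∘ ⇑π⁻¹ = e := fun e he => by
    have := hg e he
    rw [mul_assoc, pm_dg, ← mul_assoc, ← mul_assoc, ← map_mul, ← map_mul, mul_comm e] at this
    exact mul_left_cancel (mon_inj this).1
  rw [← inv_eq_one]
  ext1 i
  obtain ⟨k, hk⟩ := exists_ne i
  have := congrFun (key (Pi.mulSingle i omU * Pi.mulSingle k omU⁻¹) (by
    simp only [Pi.mul_apply, Finset.prod_mul_distrib, Fintype.prod_pi_mulSingle', mul_inv_cancel])) i
  simp only [Function.comp, Pi.mul_apply, Pi.mulSingle_eq_same, Pi.mulSingle_eq_of_ne hk.symm,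
    mul_one] at this
  by_contra hne
  rw [Pi.mulSingle_eq_of_ne (show π⁻¹ i ≠ i from hne), one_mul, Pi.mulSingle_apply] at this
  split_ifs at this <;> exact absurd this (by decide)

/-! ### A Sylow subgroup -/

def c1 : Perm (Fin 6) := swap 0 2 * swap 0 1
def c2 : Perm (Fin 6) := swap 3 5 * swap 3 4

def C9 : Subgroup (Perm (Fin 6)) where
  carrier := {π | ∃ a b : Fin 3, π = c1 ^ a.1 * c2 ^ b.1}
  one_mem' := ⟨0, 0, by decide⟩
  mul_mem' := by
    rintro _ _ ⟨a, b, rfl⟩ ⟨c, d, rfl⟩
    refine ⟨a + c, b + d, ?_⟩
    revert a b c d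
    decide +kernel
  inv_mem' := by
    rintro _ ⟨a, b, rfl⟩
    refine ⟨-a, -b, ?_⟩
    revert a b
    decide +kernel

theorem card_C9 : Nat.card C9 = 9 := by
  refine (Nat.card_eq_of_bijective (fun p : Fin 3 × Fin 3 =>
    (⟨c1 ^ p.1.1 * c2 ^ p.2.1, p.1, p.2, rfl⟩ : C9)) ⟨fun p q h => ?_, ?_⟩).symm.trans (by simp)
  · have := congrArg Subtype.val h
    revert p q
    simp only
    decide +kernel
  · rintro ⟨_, a, b, rfl⟩
    exact ⟨(a, b), rfl⟩

theorem C9_le : C9 ≤ alternatingGroup (Fin 6) := by
  rintro _ ⟨a, b, rfl⟩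
  rw [Perm.mem_alternatingGroup]
  revert a b
  decide +kernel

theorem c1_mem : c1 ∈ C9 := ⟨1, 0, by decide⟩
theorem c2_mem : c2 ∈ C9 := ⟨0, 1, by decide⟩

/-- the diagonal group is the only large normal subgroup of class two modulo scalars -/
theorem eq_Mon_bot {B : Subgroup UU} (hB : B ≤ Mon C9) (hc : Nat.card B = 243)
    (hn : ∀ a ∈ Mon ⊥, ∀ b ∈ B, a * b * a⁻¹ ∈ B)
    (hab : ∀ a ∈ B, ∀ b ∈ B, ∃ c, a * b * a⁻¹ * b⁻¹ = sc c) : B = Mon ⊥ := by
  refine eq_of_le_of_card_ge (fun b hb => ?_) (by rw [card_Mon, card_bot, hc])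
  obtain ⟨d, hd, π, ⟨x, y, hπ⟩, rfl⟩ := hB hb
  let e : Fin 6 → F4ˣ := ![omU, 1, 1, omU⁻¹, 1, 1]
  have h1 : ∀ e, dg d * pm π * dg e * (dg d * pm π)⁻¹ * (dg e)⁻¹ = dg (e ∘ ⇑π⁻¹ * e⁻¹) := fun e => by
    rw [mul_assoc (dg d), pm_dg, map_mul, map_inv, mul_inv_rev, ← mul_assoc, ← mul_assoc, ← map_mul,
      mul_comm d, map_mul]
    group
  have h2 : dg (e ∘ ⇑π⁻¹ * e⁻¹) ∈ B := by
    rw [← h1]
    have := mul_mem hb (hn _ (dg_mem (d := e) (by decide)) _ (inv_mem hb))
    simpa only [mul_assoc] using this
  obtain ⟨c, hc⟩ := hab _ hb _ h2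
  rw [h1] at hc
  have h3 := dg_injective hc
  have h4 : π = 1 := by
    have h5 := (congrFun h3 0).trans (congrFun h3 3).symm
    subst hπ
    revert h5
    clear h3 hc h2 h1 hb
    revert x y
    decide +kernel
  rw [h4, map_one, mul_one]
  exact dg_mem hd

theorem center_S0 {y : UU} (h : ∀ g ∈ Mon C9, g * y = y * g) :
    ∃ a b : F4ˣ, y = dg ![a, a, a, b, b, b] := by
  obtain ⟨d, rfl⟩ := exists_dg_of_comm fun d hd => (h _ (dg_mem hd)).symm
  have h1 := h _ (pm_mem c1_mem)
  have h2 := h _ (pm_mem c2_mem)
  rw [pm_dg] at h1 h2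
  replace h1 := (mon_inj h1).1
  replace h2 := (mon_inj h2).1
  refine ⟨d 0, d 3, congrArg dg (funext fun i => ?_)⟩
  fin_cases i
  exacts [rfl, (congrFun h1 1).symm, congrFun h1 0, rfl, (congrFun h2 4).symm, congrFun h2 3]

theorem exists_sc_of_comm {y : UU} (h : ∀ g ∈ Mon (alternatingGroup (Fin 6)), g * y = y * g) :
    ∃ c, y = sc c := by
  obtain ⟨a, b, rfl⟩ := center_S0 fun g hg => h g (Mon_mono C9_le hg)
  have h1 := h _ (pm_mem (π := swap 0 3 * swap 0 1) (Perm.mem_alternatingGroup.2 (by decide)))
  rw [pm_dg] at h1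
  obtain rfl : b = a := congrFun (mon_inj h1).1 0
  exact ⟨b, congrArg dg (funext fun i => by fin_cases i <;> rfl)⟩

theorem eq_Mon_alt {Y : Subgroup UU} (h1 : Mon ⊥ ≤ Y) (h2 : Y ≤ Mon ⊤) (hc : Nat.card Y = 243 * 360) :
    Y = Mon (alternatingGroup (Fin 6)) := by
  have h3 : Y = Mon (Y.comap pm) := by
    refine le_antisymm (fun y hy => ?_) (Mon_le (fun d hd => h1 (dg_mem hd)) fun π h => h)
    obtain ⟨d, hd, π, -, rfl⟩ := h2 hy
    exact ⟨d, hd, π, (mul_mem_cancel_left (h1 (dg_mem hd))).1 hy, rfl⟩
  rw [h3, card_Mon] at hc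
  have h4 := (Y.comap pm).card_mul_index
  rw [Nat.card_perm, Nat.card_fin, show Nat.factorial 6 = 720 from rfl] at h4
  rw [h3, Perm.eq_alternatingGroup_of_index_eq_two (G := Y.comap pm) (by
    rw [show Nat.card (Y.comap pm) = 360 by omega] at h4; omega)]

/-! ### Classes of isotropic vectors -/

/-- forgetting the field -/
def io : UU →* L2 := MonoidHom.mk' (fun g => g.1.restrictScalars (ZMod 2)) fun _ _ => rfl

theorem io_apply (g : UU) (v : V) : io g v = g.1 v := rfl

theorem io_injective : Function.Injective io := fun _ _ h => UG.ext fun v => DFunLike.congr_fun h v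

def wt (v : V) : ℕ := (Finset.univ.filter fun i => v i ≠ 0).card

def pr (v : V) : F4 := ∏ i, v i

theorem wt_dg (d : Fin 6 → F4ˣ) (v : V) : wt ((dg d).1 v) = wt v := by simp [wt, dg_apply]

theorem pr_dg (d : Fin 6 → F4ˣ) (v : V) : pr ((dg d).1 v) = (∏ i, d i :) * pr v := by
  simp [pr, dg_apply, Finset.prod_mul_distrib]

theorem wt_pm (π : Perm (Fin 6)) (v : V) : wt ((pm π).1 v) = wt v :=
  Finset.card_equiv π⁻¹ fun i => by
    rw [Finset.mem_filter, Finset.mem_filter, pm_apply]; simp only [Finset.mem_univ]

theorem pr_pm (π : Perm (Fin 6)) (v : V) : pr ((pm π).1 v) = pr v := Equiv.prod_comp π⁻¹ v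

def cl (v : V) : ℕ :=
  if wt v = 2 then 0 else if wt v = 4 then 1 else if pr v = 1 then 2 else if pr v = om4 then 3
  else if pr v = om4 * om4 then 4 else 5

def CL : ℕ := nat_lit 0x5238da8da6948da6946945238da6946945236945235238da75556556595d56595d95d75556595d95d75595d7557555656ad52d52d8ed52d8ed8ed6ad52d8ed8ed6ad8ed6ad6ad52d969769769569769569569969769569569969569969969769694b6d523b6d523b6d8dab6d523b6d8dab6d8dab6d694b6d95da69755a69755a69565a69755a69565a69565a6995da698edb496adb496adb4952db496adb4952db4952db498edb49569a4d969a4d969a4d769a4d969a4d769a4d769a4d569a4d694523b6db6d5238dab6db6d5238dab6db6d8da694b6db6d95d755a69a69755565a69a69755565a69a6956595da69a698ed6adb49b496ad52db49b496ad52db49b4952d8edb49b49569969a4da4d969769a4da4d969769a4da4d769569a4da4d8dab6db6d249694b6db6d249694b6db6d249523b6db6d249565a69a6934d95da69a6934d95da69a6934d755a69a6934d52db49b4926d8edb49b4926d8edb49b4926d6adb49b4926d769a4da4d368569a4da4d368569a4da4d368969a4da4d3686945235238dab6db6db6db6d5238da8da694b6db6db6db6d95d755755565a69a69a69a6975556556595da69a69a69a69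8ed6ad6ad52db49b49b49b496ad52d52d8edb49b49b49b49569969969769a4da4da4da4d969769769569a4da4da4da4d8dab6d694b6db6d249b6d249694b6d523b6db6d249b6d249565a6995da69a6934da6934d95da69755a69a6934da6934d52db498edb49b4926db4926d8edb496adb49b4926db4926d769a4d569a4da4d368a4d368569a4d969a4da4d368a4d3688da694b6db6db6db6d249249694523b6db6db6db6d24924956595da69a69a69a6934d34d95d755a69a69a69a6934d34d52d8edb49b49b49b4926d26d8ed6adb49b49b49b4926d26d769569a4da4da4da4d368368569969a4da4da4da4d368368523b6db6d249b6d249249b6d8dab6db6d249b6d249249b6d755a69a6934da6934d34da28565a69a6934da6934d34da286adb49b4926db4926d26db4052db49b4926db4926d26db40969a4da4d368a4d368368a05769a4da4d368a4d368368a056945235238da5238da8da694b6db6db6db6db6db6db6db6d95d75575556575556556595da69a69a69a69a69a69a69a698ed6ad6ad52d6ad52d52d8edb49b49b49b49b49b49b49b49569969969769969769769569a4da4da4da4da4da4da4da4d8dab6d694b6d694b6d523b6db6d249b6d249b6d249b6d249565a6995da6995da69755a69a6934da6934da6934da6934d52db498edb498edb496adb49b4926db4926db4926db4926d769a4d569a4d569a4d969a4da4d368a4d368a4d36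8a4d3688da694b6db6d694523b6db6db6db6d249249b6db6d24924956595da69a6995d755a69a69a69a6934d34da69a6934d34d52d8edb49b498ed6adb49b49b49b4926d26db49b4926d26d769569a4da4d569969a4da4da4da4d368368a4da4d368368523b6db6d2498dab6db6d249b6d249249b6db6d249249b6d755a69a6934d565a69a6934da6934d34da28a6934d34da286adb49b4926d52db49b4926db4926d26db40b4926d26db40969a4da4d368769a4da4d368a4d368368a05a4d368368a058da694694523b6db6db6db6db6db6db6db6d24924924924956595d95d755a69a69a69a69a69a69a69a6934d34d34d34d52d8ed8ed6adb49b49b49b49b49b49b49b4926d26d26d26d769569569969a4da4da4da4da4da4da4da4d368368368368523b6d8dab6db6d249b6d249b6d249b6d249249b6d249b6d755a69565a69a6934da6934da6934da6934d34da2834da286adb4952db49b4926db4926db4926db4926d26db4026db40969a4d769a4da4d368a4d368a4d368a4d368368a05368a055238dab6db6db6db6d249249b6db6d249249249249b6db6d755565a69a69a69a6934d34da69a6934d34d34d34da28a286ad52db49b49b49b4926d26db49b4926d26d26d26db40b40969769a4da4da4da4d368368a4da4d368368368368a05a05694b6db6d249b6d249249b6db6d249249b6d249b6db6d00095da69a6934da6934d34da28a6934d34da2834da28a281458edb49b4926db4926d26db40b4926d26db4026db40b4002d569a4da4d368a4d368368a05a4d368368a05368a05a0516d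

def clN (n : ℕ) : ℕ := pick CL (nat_lit 3) (nat_lit 7) n

theorem cl_chk : allP (fun n => decide (cl (vec n) = clN n)) 12 0 = true := by decide +kernel

theorem cl_vec {n : ℕ} (h : n < 4096) : cl (vec n) = clN n := of_decide_eq_true (allP_zero cl_chk n h)

/-- unions of classes -/
def cs (m : ℕ) : Set V := {v | m.testBit (cl v)}

theorem vec_mem_cs {m n : ℕ} (h : n < 4096) : vec n ∈ cs m ↔ tb m (clN n) = true := by
  rw [tb_eq_true, ← cl_vec h]; rfl

theorem testBit31 {k : ℕ} : Nat.testBit 31 k = true ↔ k < 5 := by
  rw [show (31 : ℕ) = 2 ^ 5 - 1 from rfl, Nat.testBit_two_pow_sub_one, decide_eq_true_eq]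

theorem iso_chk : allP (fun n => Nat.beq (bif' (tb 31 (clN n)) 0 1) (bif' (Nat.beq n 0) 1 (hN n n)))
    12 0 = true := by decide +kernel

theorem mem_cs31 {v : V} : v ∈ cs 31 ↔ v ≠ 0 ∧ hh v v = 0 := by
  obtain ⟨n, hn, rfl⟩ := exists_vec v
  have := beq_iff.1 (allP_zero iso_chk n hn)
  rw [vec_mem_cs hn, hh_vec_eq_zero, Ne, vec_eq_zero hn]
  simp only [bif'_eq, beq_iff] at this
  split_ifs at this <;> simp_all [eq_comm (a := 1)]

def nn (m : ℕ) : ℕ := 135 * (m % 2) + 1215 * (m / 2 % 2) + 243 * (m / 4 % 2 + m / 8 % 2 + m / 16 % 2)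

theorem nn_chk : allR (fun m => Nat.beq (sumR (fun n => bif' (tb m (clN n)) 1 0) 4096) (nn m)) 32 = true := by
  decide +kernel

theorem card_cs {m : ℕ} (h : m < 32) : (cs m).ncard = nn m :=
  (ncard_eq _ _ fun _ hn => vec_mem_cs hn).trans (beq_iff.1 (allR_eq_true.1 nn_chk m h))

theorem cs_subset {m : ℕ} (h : m < 32) : cs m ⊆ cs 31 := fun v (hv : m.testBit (cl v) = true) => by
  refine testBit31.2 ?_
  by_contra h5
  rw [Nat.testBit_lt_two_pow (lt_of_lt_of_le h (Nat.pow_le_pow_right (n := 2) (i := 5) (by norm_num)
    (not_lt.1 h5)))] at hv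
  exact absurd hv (by decide)

def gensP : List ℕ := [nat_lit 0x800400200040100080020010008001004002,
  nat_lit 0x80800400200100040002020010008004001, nat_lit 0x800400200100002041020010008004082040]

theorem gensP_in : ∀ c ∈ gensP, InH ((Mon (alternatingGroup (Fin 6))).map io) c := by
  simp only [gensP, List.forall_mem_cons, List.not_mem_nil, false_imp_iff, implies_true, and_true]
  refine ⟨⟨_, mem_map_of_mem _ (pm_mem (C9_le c1_mem)), rep_of_basis ?_⟩,
    ⟨_, mem_map_of_mem _ (pm_mem (π := swap 1 5 * swap 1 4 * swap 1 3 * swap 1 2)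
      (Perm.mem_alternatingGroup.2 (by decide))), rep_of_basis ?_⟩,
    ⟨_, mem_map_of_mem _ (dg_mem (d := ![omU, omU⁻¹, 1, 1, 1, 1]) (by decide)), rep_of_basis ?_⟩⟩ <;>
    simp only [io_apply, funext_iff, pm_apply, dg_apply] <;> decide +kernel

def rootP (n : ℕ) : ℕ := getL [3, 15, 63, 126, 127] n (clN n)

def TP : ℕ := nat_lit 0x625852585a5a52595a5852505a524a5252504a58585a524a5248425250524a4a5a58525a595a525251504a4a494a42525a504a5251524a525148424a494a424a62005800600050005a005200500050005800480051005000500048005000480058005200500058004800520050004800500050005000500048004a0048004800585800005149000050480000484900005150000041480000494800004140000050480000495100004048000049410000484800004948000040400000414000004800005848000059480000504000004040000058480000483800003840000040480000594800004840000040380000484000004040000048380000403800004952515249000000004a4142490000000052494a42000000004a41423a000000004949414a00000000394941420000000041494142000000003941393a0000000051004a000051005251004200005200494900490000520049410042000041004951004a0000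5a005149003a0000480052490042000048005241003a0000410042414100000000525a4139000000004a393941000000005241313900000000313a4141000000005241393100000000394239390000000039423131000000003a42490000510049490039000041004842004100004900504a0039000049004142003900005100594a003900004100484a003900004900494a0031000038003931005248424050423a4a00000000000000004a38324040423a4200000000000000004a403a4048423a4200000000000000004238323a403a324200000000000000004a004a00480048000048005a005000484a00420040003800004a00400040004840004200400040000052004a0040005238003a0038003800003800380040004040400000404000000000424a00005240403800003830000000004a3800003842383800003938000000004a380000404a30300000383000000000303a0000323a38000040300000410050380000514a0028000040300000480040420000494a0030000040300000410040420000495000280000402800003000424200003828003a393a3a000000000000000050605a3a3a31322a000000000000000050313250313a323200000000000000005a3a325a2931292a00000000000000002940484a410032000049004a0040005141005800310032000039003a004a0042480050003900320000410042004a004248005000310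02a0000420039003a003048002a00312900000000394200004852315900002129000000003a4200003a42514800002929000000003a4200003a42514800002121000000003a2900004230402100003100004100414a00004a5900500000312900003900313100003830002900002929000039003931000038300029000029210000380041320000423a004800003152504a48524a42524a484248504a424a000000000000000000000000000000005148424a414a424a49403a4241423a420000000000000000000000000000000050004a00480049005200420040004800005a0052005200490052004a00500052480048004900400040004200400040000059005200490051005000480052004a494000004949000048380000404000000000525a00005a4900005a490000414a4040000041390000383800003939000000005a5000004952000049520000424a400000403900004838000038380000400048490000515200004052000048500038000040380000483000004030000030004850000051580000515000004039004a423a4200000000423a323a000000000000000059585a51000000005a524a5a39423a3a00000000313a32320000000000000000615149510000000051505252490041000049004a41003a000039003a0051004950005800004a00424800520041003a000041004239003200004100390049004a51005800004100415800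48003939000000003942313100000000323a0000414a4950000000003a42504800003131000000003a422929000000003a290000424a4950000000004a39484900003100004900414a0029000030003129000049520050000039003931004000002931000038003931002900003800413200004139004100003100414200480000313a302a303a322a32000000000000000000000000000000005a605a3062322a523228222a302a22320000000000000000000000000000000062282252305a525a380032003000300000400038004a0042004a0040004a0042380050005800580028002a00280028000030004200380030004a00420041004050005800590028003028000028280000000038420000323a0000414a00003a423050000049510000202000002820000000002a3200003a280000424a00004a394951000051200000200000402000003000484a00003828000048500000383100500000302000002018000028180000300038200000403200003839000040420018000018480000202a212221000000000000000032405248000000004a484a482a524a52000000001921191a0000000000000000384842220000000051484a4a4959521a0000000029002100003a0031003a003052002900004200385200400059002100002a002121001a000030003a0028003a29004800003900424000480021004a000020002a1919000000003a2900004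2304021000000004231484000004919000000002a19111100000000212a0000303a194000000000313a41490000114100000000111a190000390039320000413a004800002900393a0040000029410000280029220011000039003132000032420038000029003942004000002949000028002122005a504a48524a42524a403a48484a424252484248494a424a4a403a4049423a4200000000000000000000000000000000000000000000000000000000000000005000500051004900490040004100400051004a00480041004900400041004000005a005200520049004a004000410048005200480049005200490048004a004248480000494100004140000039380000494000004139000041380000393800000000505a000052410000524900003942000052480000414a000041400000424840000040380000483000004038000048380000403800004830000040300000300048510000494a0000484800004a4a00004848000049500000484a0000383900424a42420000000042423a320000000042423a3a0000000039393232000000000000000049515a49000000005141424a000000005141424a00000000394139414100390000480050310039000049004a390039000049004a310031000042003800490049410050000049004a490052000049004a49005000004200394900310039310000000039422931000000003a423131000000003a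422929000000003a290000414a4a5200000000424a414900000000424a4149000000004231483900003900004900504a0031000039004031003100003800413100290000380040320000495200500000390041390039000031004139003900003100403a004100003942383238403a324200000000000000003a302a3038322a3a0000000000000000000000000000000052605a485a4a424a000000000000000062504a524a52495140003a0038003800004000380049004238003200300030000030003a00380030004800400041004252004800520050000042003a0042003950005800590041003830000038300000000038420000323a302800003028000000002a3200003a280000404000003a42494800004149000000003842000040314951000051410000280000402800003000484a00003828002000002820000030003020000038320000484a000038310050000038390000280030380000383a00400000204800002832322a2a00000000000000003240524829292222000000000000000038404222000000003a423941424a414900000000000000003139413149515242000000002900290000420038003a00305200290021002100003000380028003a21004000004200394a0031005200390000320029003100392900390041004a00002100292121000000003a290000423040210000191900000000212a00002832194000000000423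148390000493900000000322100002932323a00003941000000001922210000380040320000413a0049000031190000390039320000323a003800002900413a00410000314100003100312a00003a3a004000003149000031002a2a0042403a404a423a3a42383238403a323a00000000000000000000000000000000000000000000000000000000000000005a605a49594a41495a4842504a494a524900380039004100410038003900380000510051005100520051004a004a004100490048004a00420042003a0042003950005000510051005000500051004000413800003139000039300000313000000000505000004a5200004a5200005141000041400000424a0000384200004031494800004951000049500000493900003000004030000030280000282800003000515900004941000040410000484a0000484a00003839000030390000383a00500000414000003038000028400000303a3a32320000000032322a2a00000000000000004a524951000000005150524a000000003a4239410000000031394131424941490000000041494a3a0000000031003100004200382900290000300038004a0041580041000039004149005100004200394a003100003100392900390051003900003a003140004200002900312929000000003a29212100000000212a0000514151410000000039424149000000004231483900000000293231390000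4939000000003a29313900000000212a2900003800403200210000380039320000494a0049000039004149004800003100403a0041000039003a3a00400000314100003900393200410000390032320022181218201a1222000000000000000000000000000000002a504a58525a522a000000000000000052504a58515a524a2248425241494a22000000000000000022001a0018001800003a00320028003a004a0042003900415900220020004900003a00300031003862004a004800500050001a0018004000002a00220018002a181000001810000000003220000028320000524100003942511800002041000000003a3000002932584000004148000048100000183900000000221000001822080000280800003000282a00003038000038480000404800400000184800002000303000003838004000002048000028380000284000003000181a000020280012120a0a000000000000000042221a4200000000524a424a511a1242000000000000000039292a3252423a420000000041120a3a000000000000000029120a2210000a00003100320032002a30003a000039003a40004a0041004900002100220031003231003a0048004a0000210022390041000029002a0022001a20002a00000000000000222a0000222a383000000000323a41400000394100000000121a00002a32293100003941000000001a22313900000000222a0000121a1920000000000020002919000020180011000021003029003800002109000010001909000029210021000029310000180019110000000020002119000010080000000000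

theorem TP_chk : orbChk gensP TP rootP = true := by decide +kernel

theorem exists_cl_eq {v w : V} (hv : v ∈ cs 31) (h : cl v = cl w) :
    ∃ g ∈ Mon (alternatingGroup (Fin 6)), g.1 v = w := by
  obtain ⟨m, hm, rfl⟩ := exists_vec v
  obtain ⟨n, hn, rfl⟩ := exists_vec w
  obtain ⟨_, ⟨g, hg, rfl⟩, e⟩ := orbChk_spec gensP_in TP_chk hm
  obtain ⟨_, ⟨k, hk, rfl⟩, e'⟩ := orbChk_spec gensP_in TP_chk hn
  refine ⟨k⁻¹ * g, mul_mem (inv_mem hk) hg, ?_⟩
  rw [vec_mem_cs hm] at hv
  rw [cl_vec hm, cl_vec hn] at h
  have : rootP m = rootP n := by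
    unfold rootP
    rw [← h]
    generalize clN m = k at hv
    have : k < 5 := testBit31.1 (tb_eq_true.1 hv)
    interval_cases k <;> rfl
  rw [io_apply] at e e'
  rw [UG.mul_apply, e, this, ← e', UG.inv_apply_self]

theorem exists_cs {X : Set V} (h1 : X ⊆ cs 31)
    (h2 : ∀ g ∈ Mon (alternatingGroup (Fin 6)), ∀ v ∈ X, g.1 v ∈ X) : ∃ m < 32, X = cs m := by
  classical
  obtain ⟨m, hm, h⟩ : ∃ m < 32, ∀ k < 5, m.testBit k = decide (∃ v ∈ X, cl v = k) := by
    have key : ∀ a b c d e : Bool, ∃ m < 32, m.testBit 0 = a ∧ m.testBit 1 = b ∧ m.testBit 2 = c ∧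
      m.testBit 3 = d ∧ m.testBit 4 = e := by decide
    obtain ⟨m, hm, h⟩ := key (decide (∃ v ∈ X, cl v = 0)) (decide (∃ v ∈ X, cl v = 1))
      (decide (∃ v ∈ X, cl v = 2)) (decide (∃ v ∈ X, cl v = 3)) (decide (∃ v ∈ X, cl v = 4))
    refine ⟨m, hm, fun k hk => ?_⟩
    interval_cases k <;> tauto
  have h5 : ∀ v ∈ cs 31, cl v < 5 := fun v hv => testBit31.1 hv
  refine ⟨m, hm, Set.ext fun v => ⟨fun hv => ?_, fun hv => ?_⟩⟩
  · change m.testBit (cl v) = true
    rw [h _ (h5 v (h1 hv)), decide_eq_true_eq]
    exact ⟨v, hv, rfl⟩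
  · have h3 : m.testBit (cl v) = true := hv
    rw [h _ (h5 v (cs_subset hm hv)), decide_eq_true_eq] at h3
    obtain ⟨w, hw, e⟩ := h3
    obtain ⟨g, hg, rfl⟩ := exists_cl_eq (h1 hw) e
    exact h2 g hg w hw

theorem card_UU : Nat.card UU = 2 ^ 15 * 3 ^ 8 * 5 * 7 * 11 := by
  rw [card_UG_std fq4]; decide +kernel

theorem card_SUG : Nat.card (SUG hh) = 2 ^ 15 * 3 ^ 7 * 5 * 7 * 11 := by
  have := card_SUG_std fq4 (n := 6) (by norm_num)
  rw [card_UU] at this
  change Nat.card (SUG (std F4 6)) = _
  omega

theorem map_mem_cs31 (g : UU) {v : V} (h : v ∈ cs 31) : g.1 v ∈ cs 31 :=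
  mem_cs31.2 ⟨by simpa using (mem_cs31.1 h).1, by rw [UG.map_h, (mem_cs31.1 h).2]⟩

theorem orbit_UU {v : V} (h : v ∈ cs 31) : MulAction.orbit UU v = cs 31 := by
  refine Set.Subset.antisymm (by rintro _ ⟨g, rfl⟩; exact map_mem_cs31 g h) fun w hw => ?_
  obtain ⟨f, hf⟩ := (nondeg_std 6).exists_HP fq4.exists_star_ne (mem_cs31.1 h).2 (mem_cs31.1 h).1
  obtain ⟨g, -, c, hc, e⟩ := exists_map_of_TT_le fq4.exists_star_ne (nondeg_std 6) hf (S := ⊤) le_top
    le_top (mem_cs31.1 hw).1 (mem_cs31.1 hw).2
  refine ⟨sc (Units.mk0 c hc)⁻¹ * g, ?_⟩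
  change (sc _).1 (g.1 v) = w
  rw [e, sc_apply, smul_smul]
  simp [hc]

theorem card_orbit_mul (G : Type*) {X : Type*} [Group G] [MulAction G X] (x : X) :
    (MulAction.orbit G x).ncard * Nat.card (MulAction.stabilizer G x) = Nat.card G := by
  rw [← Nat.card_coe_set_eq, ← Nat.card_prod]
  exact Nat.card_congr (MulAction.orbitProdStabilizerEquivGroup G x)

theorem seven_dvd {K : Subgroup UU} (hK : 7 ∣ Nat.card K) {X : Set V} (h1 : X ⊆ cs 31)
    (h2 : ∀ g ∈ K, ∀ v ∈ X, g.1 v ∈ X) : 7 ∣ X.ncard := by
  classical
  haveI : Fact (Nat.Prime 7) := ⟨by norm_num⟩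
  obtain ⟨g, hg⟩ := exists_prime_orderOf_dvd_card' 7 hK
  let f : Function.End X := fun v => ⟨g.1.1 v, h2 _ g.2 _ v.2⟩
  have h3 : ∀ n v, ((f ^ n) v).1 = (g ^ n).1.1 v := fun n => by
    induction n with
    | zero => exact fun _ => rfl
    | succ n ih => exact fun v => by rw [pow_succ, pow_succ]; exact ih _
  have h4 : f ^ 7 ^ 1 = 1 := funext fun v => Subtype.ext (by
    rw [h3, pow_one, ← hg, pow_orderOf_eq_one]; rfl)
  haveI := Fintype.ofFinite X
  have h5 := Perm.card_fixedPoints_modEq h4
  haveI : IsEmpty f.fixedPoints := ⟨fun ⟨v, hv⟩ => by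
    have h6 := card_orbit_mul UU v.1
    have h7 : g.1 ∈ MulAction.stabilizer UU v.1 := congrArg Subtype.val hv
    have h8 := orderOf_dvd_natCard (⟨g.1, h7⟩ : MulAction.stabilizer UU v.1)
    rw [← orderOf_coe, orderOf_coe g, hg] at h8
    rw [orbit_UU (h1 v.2), card_cs (by norm_num), card_UU] at h6
    obtain ⟨k, hk⟩ := h8
    rw [hk, show nn 31 = 2079 from rfl] at h6
    omega⟩
  rw [Fintype.card_eq_zero (α := f.fixedPoints), ← Nat.card_eq_fintype_card, Nat.card_coe_set_eq] at h5
  exact (Nat.modEq_zero_iff_dvd).1 h5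

theorem realizeEqns_U6Mon : True := by
  have := @CA.U6.sc.eq_1
  have := @CA.U6.sc.eq_def
  have := @CA.U6.sc.congr_simp
  have := @CA.U6.clN.eq_1
  have := @CA.U6.clN.eq_def
  have := @CA.U6.clN.congr_simp
  have := @CA.U6.CL.eq_1
  have := @CA.U6.CL.eq_def
  have := @CA.U6.CL.congr_simp
  have := @CA.U6.rootP.eq_1
  have := @CA.U6.rootP.eq_def
  have := @CA.U6.rootP.congr_simp
  have := @CA.U6.UU.eq_1
  have := @CA.U6.UU.eq_def
  have := @CA.U6.UU.congr_simp
  have := @CA.U6.pr.eq_1
  have := @CA.U6.pr.eq_def
  have := @CA.U6.pr.congr_simp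
  have := @CA.U6.omU.eq_1
  have := @CA.U6.omU.eq_def
  have := @CA.U6.omU.congr_simp
  have := @CA.U6.c1.eq_1
  have := @CA.U6.c1.eq_def
  have := @CA.U6.c1.congr_simp
  have := @CA.U6.c2.eq_1
  have := @CA.U6.c2.eq_def
  have := @CA.U6.c2.congr_simp
  have := @CA.U6.dg.eq_1
  have := @CA.U6.dg.eq_def
  have := @CA.U6.dg.congr_simp
  have := @CA.U6.cs.eq_1
  have := @CA.U6.cs.eq_def
  have := @CA.U6.cs.congr_simp
  have := @CA.U6.io.eq_1
  have := @CA.U6.io.eq_def
  have := @CA.U6.io.congr_simp
  have := @CA.U6.wt.eq_1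
  have := @CA.U6.wt.eq_def
  have := @CA.U6.wt.congr_simp
  have := @CA.U6.nn.eq_1
  have := @CA.U6.nn.eq_def
  have := @CA.U6.nn.congr_simp
  have := @CA.U6.dgL.eq_1
  have := @CA.U6.dgL.eq_def
  have := @CA.U6.dgL.congr_simp
  have := @CA.U6.pm.eq_1
  have := @CA.U6.pm.eq_def
  have := @CA.U6.pm.congr_simp
  have := @CA.U6.gensP.eq_1
  have := @CA.U6.gensP.eq_def
  have := @CA.U6.gensP.congr_simp
  have := @CA.U6.cl.eq_1
  have := @CA.U6.cl.eq_def
  have := @CA.U6.cl.congr_simp
  have := @CA.U6.Mon.eq_1
  have := @CA.U6.Mon.eq_def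
  have := @CA.U6.Mon.congr_simp
  have := @CA.U6.TP.eq_1
  have := @CA.U6.TP.eq_def
  have := @CA.U6.TP.congr_simp
  have := @CA.U6.C9.eq_1
  have := @CA.U6.C9.eq_def
  have := @CA.U6.C9.congr_simp
  trivial

end CA.U6
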