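import Cfsg.Agent.U6.Mon
import Cfsg.Agent.Unit.Seven
import Cfsg.Agent.Orth.Refl3

/-! The group generated by 126 unitary transvections, and the reflections of the elliptic quadric over three elements. -/

set_option autoImplicit false

namespace CA.U6

open Cfsg Cfsg.Agent Cfsg.Agent.Unit CA.M24 Subgroup Equiv QuadraticMap

theorem nonempty_quot_equiv {G H : Type*} [Group G] [Group H] (D : Subgroup (G × H)) (N₁ : Subgroup G)
    (N₂ : Subgroup H) [N₁.Normal] [N₂.Normal] (h1 : ∀ g, ∃ h, (g, h) ∈ D) (h2 : ∀ h, ∃ g, (g, h) ∈ D)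
    (h3 : ∀ p ∈ D, p.1 ∈ N₁ ↔ p.2 ∈ N₂) : Nonempty (G ⧸ N₁ ≃* H ⧸ N₂) := by
  let f₁ : D →* G ⧸ N₁ := (QuotientGroup.mk' N₁).comp ((MonoidHom.fst G H).comp D.subtype)
  let f₂ : D →* H ⧸ N₂ := (QuotientGroup.mk' N₂).comp ((MonoidHom.snd G H).comp D.subtype)
  refine ⟨(QuotientGroup.quotientKerEquivOfSurjective f₁ fun x => ?_).symm.trans
    ((QuotientGroup.quotientMulEquivOfEq (Subgroup.ext fun p => ?_)).trans
      (QuotientGroup.quotientKerEquivOfSurjective f₂ fun x => ?_))⟩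
  · obtain ⟨g, rfl⟩ := QuotientGroup.mk_surjective x
    obtain ⟨h, hh⟩ := h1 g
    exact ⟨⟨_, hh⟩, rfl⟩
  · exact (QuotientGroup.eq_one_iff _).trans ((h3 _ p.2).trans (QuotientGroup.eq_one_iff _).symm)
  · obtain ⟨h, rfl⟩ := QuotientGroup.mk_surjective x
    obtain ⟨g, hg⟩ := h2 h
    exact ⟨⟨_, hg⟩, rfl⟩

/-- the transvection with a given centre -/
noncomputable def tvV (v : V) : UU := if h : hh v v = 0 then fq4.tv v h else 1

theorem tvV_apply {v : V} (h : hh v v = 0) (x : V) : (tvV v).1 x = x + hh x v • v := by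
  rw [tvV, dif_pos h, fq4.tv_apply]

theorem tvV_conj (g : UU) (v : V) : g * tvV v * g⁻¹ = tvV (g.1 v) := by
  by_cases h : hh v v = 0
  · rw [tvV, dif_pos h, fq4.tv_conj, tvV, dif_pos]
  · rw [tvV, dif_neg h, tvV, dif_neg (by rwa [UG.map_h]), mul_one, mul_inv_cancel]

theorem tvV_smul (v : V) {c : F4} (hc : c ≠ 0) : tvV (c • v) = tvV v := by
  have := tvV_conj (sc (Units.mk0 c hc)) v
  rw [← sc_comm, mul_inv_cancel_right, sc_apply] at this
  exact this.symm

theorem tvV_sq (v : V) : tvV v * tvV v = 1 := by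
  by_cases h : hh v v = 0
  · rw [tvV, dif_pos h, fq4.tv_mul_self]
  · rw [tvV, dif_neg h, mul_one]

theorem tvV_inv (v : V) : (tvV v)⁻¹ = tvV v := inv_eq_of_mul_eq_one_right (tvV_sq v)

theorem tvV_mem (v : V) : tvV v ∈ SUG hh := by
  by_cases h : hh v v = 0
  · rw [tvV, dif_pos h]; exact fq4.tv_mem h
  · rw [tvV, dif_neg h]; exact one_mem _

theorem tvV_inj {u v : V} (hu : u ∈ cs 31) (hv : v ∈ cs 31) (h : tvV u = tvV v) :
    ∃ c : F4, c ≠ 0 ∧ u = c • v := by
  obtain ⟨y, hy⟩ := (nondeg_std 6).exists_eq (mem_cs31.1 hu).1 1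
  have h1 := congrArg (fun g : UU => g.1 y) h
  simp only [tvV_apply (mem_cs31.1 hu).2, tvV_apply (mem_cs31.1 hv).2, add_right_inj] at h1
  rw [← Herm.star_apply, hy, star_one, one_smul] at h1
  exact ⟨_, fun h0 => (mem_cs31.1 hu).1 (by rw [h1, h0, zero_smul]), h1⟩

theorem cl_smul {c : F4} (hc : c ≠ 0) (v : V) : cl (c • v) = cl v := by
  have h1 := wt_dg (fun _ => Units.mk0 c hc) v
  have h2 := pr_dg (fun _ => Units.mk0 c hc) v
  rw [show (∏ _i : Fin 6, Units.mk0 c hc) = 1 by generalize Units.mk0 c hc = u; revert u; decide,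
    Units.val_one, one_mul] at h2
  change wt (c • v) = _ at h1
  change pr (c • v) = _ at h2
  rw [cl, cl, h1, h2]

theorem smul_mem_cs {m : ℕ} {c : F4} (hc : c ≠ 0) {v : V} : c • v ∈ cs m ↔ v ∈ cs m := by
  simp only [cs, Set.mem_setOf_eq, cl_smul hc]

/-! ### The orthogonal space -/

abbrev W3 : Type := (Fin 2 → ZMod 3) × (Fin 2 → ZMod 3) × F9

noncomputable abbrev Q3 : QuadraticForm (ZMod 3) W3 := Orth.hsum 2 (Orth.normQ (-1) 0)

def d3 (n i : ℕ) : ℕ := pick n (nat_lit 2) (nat_lit 3) i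

def w3 (n : ℕ) : W3 := (![d3 n 0, d3 n 1], ![d3 n 2, d3 n 3], ⟨d3 n 4, d3 n 5⟩)

def BN (x a : ℕ) : ℕ :=
  d3 x 0 * d3 a 2 + d3 x 2 * d3 a 0 + (d3 x 1 * d3 a 3 + d3 x 3 * d3 a 1) +
    2 * (d3 x 4 * d3 a 4 + d3 x 5 * d3 a 5)

theorem polar_w3 (x a : ℕ) : polar Q3 (w3 x) (w3 a) = (BN x a : ℕ) := by
  have key : ∀ z w : F9, polar (Orth.normQ (-1) 0) z w = 2 * (z.re * w.re + z.im * w.im) := fun z w => by
    simp only [polar, Orth.normQ_apply, QuadraticAlgebra.norm_def, QuadraticAlgebra.re_add,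
      QuadraticAlgebra.im_add]
    ring
  rw [Orth.polar_hsum, key]
  simp [w3, BN, Fin.sum_univ_two]

theorem Q_w3 (a : ℕ) : Q3 (w3 a) = 1 ↔ BN a a % 3 = 2 := by
  have key : ∀ x : ZMod 3, x = 1 ↔ 2 * x = (2 : ℕ) := by decide
  rw [key, ← Orth.polar_self', polar_w3, ZMod.natCast_eq_natCast_iff']

theorem exists_w3 (w : W3) : ∃ n < 4096, w3 n = w := by
  have key : ∀ a b c d e f : ZMod 3,
      let n := a.val + 4 * b.val + 16 * c.val + 64 * d.val + 256 * e.val + 1024 * f.val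
      n < 4096 ∧ d3 n 0 = a.val ∧ d3 n 1 = b.val ∧ d3 n 2 = c.val ∧ d3 n 3 = d.val ∧ d3 n 4 = e.val ∧
        d3 n 5 = f.val := by decide +kernel
  obtain ⟨x, y, z⟩ := w
  obtain ⟨h, h0, h1, h2, h3, h4, h5⟩ := key (x 0) (x 1) (y 0) (y 1) z.re z.im
  refine ⟨_, h, ?_⟩
  simp only [w3, h0, h1, h2, h3, h4, h5, ZMod.natCast_zmod_val]
  congr <;> ext i <;> fin_cases i <;> rfl

/-- `x - s a = t y`, coordinatewise modulo three -/
def lin3 (s a x t y : ℕ) : Bool :=
  allR (fun i => Nat.beq ((d3 x i + 2 * (s * d3 a i + t * d3 y i)) % 3) 0) 6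

theorem lin3_iff (s a x t y : ℕ) :
    lin3 s a x t y = true ↔ w3 x - (s : ZMod 3) • w3 a = (t : ZMod 3) • w3 y := by
  have key : ∀ i, Nat.beq ((d3 x i + 2 * (s * d3 a i + t * d3 y i)) % 3) 0 = true ↔
      (d3 x i : ZMod 3) - s * d3 a i = t * d3 y i := fun i => by
    have key : ∀ x y z : ZMod 3, x + 2 * (y + z) = 0 ↔ x - y = z := by decide
    rw [M24.beq_iff, ← Nat.dvd_iff_mod_eq_zero, ← ZMod.natCast_eq_zero_iff, ← key]
    push_cast
    rfl
  simp only [lin3, allR_eq_true, key, w3, Prod.ext_iff, funext_iff, Fin.forall_fin_two,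
    QuadraticAlgebra.ext_iff]
  simp only [Nat.forall_lt_succ_right, Nat.not_lt_zero, false_imp_iff, implies_true, true_and, and_assoc]
  simp

def AC : ℕ := nat_lit 0x7fe7fd7fb7f77f07ef7e87e47e27e17b97b57b37ad7ab7a777a77677376e76b76773f7236fc6f66f56ee6ed6e76bf6a567f66663762f5fc5fa5f95ee5ed5eb5bf5a957f56a53b52f4ff4ec4bd4af47e46f4304203fc3fa3f93f63f53f33bf3b137f37233b3372ff2f42bd2b727e2772282202182101ff1f81bd1bb17e17b12412011411010c1080fe0fd0a20a009209008a08808608406106005105004904804504404304203f03002802402202101801401201100c00a009006005003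
def BC : ℕ := nat_lit 0x265410414840aa16848a98010195842412956a10914a9401814440209a841011a9810984804064a21290925585404190259985621525450044a99224949561850124205961699549a29555281955629100210045aa41408952148414656a41101098654954419214590898595211041141410511599994050118055992502401950a51052a92011819949a45a1481929685a25661a494095a4694881490a85424a614006555941650690158099a1204150a94529054890625824649a55
def IA : ℕ := nat_lit 0x1fffffffffffaffffffb9fef5ffffffffcdff469ffff76fffcfffffffffffe6ff7ae7fff4a87f99ffffffef9e7f71fffff5dffffffffff8ffffd1ff57fffff6bffffffffffff93fffffffffffffffffffffffeffe9ffffffffffffffffffffffe47fffffffffffda7ffffd57f45ffffffe8bfff5bfffff6fffffffffffff97ffffffffffffffffffffff3fffebfffffffffffffffffffff2bfffffffffffedbffffeb3fff47ffffffffffffffffffffffffff8bffffffffffffb3fffffcbfffffffffffffffffffc1fffffa9ffffffffffff81fffffffffffffffffffffffffffea967ffffffff77ffffffffffff9fffffffffffffffffffbfffffffedfffffffffffffffffcefffffff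fffffbaffffffffeb55ffffffffffffffffffffffffffe27fffffffffffec7ffffffffdbffffffffffffffff47ffffffffabffffffffffff83ffffffffffffffffffffffffffffffffffffffffff0fffffffffffff5fffffffffffe7ffffffffffffffbbffffffffffadffffffffffff85ffffffffffffffffffffffffff5dffffffffffffffffffffffffffffffffffffffffffffffffffffffffffffffffffffffffffffffffffffffffffffffff5ffffffffffffffed1b7f75fffffffffffffffffffb7fffffffffffaffffffffffffffefffffffffffdafffffffffffffffffffbbfeddaffffffffffffffffffffffffffe17fffffffffffffffffff27fd9fffffffffffffffffffffff4ffc3fffffffffffffffffff87fffffffffffffffffffffffffffffffffff07fffffffffffffffffff8ffffe5fffffffffffffffffffffbffffc5fffffffffffffffffff89ffffffffffffffffffffffffff71fffffffffffffffffffffffffffffffffffffffffffffffffffffffffffffffffffffffffffffffffffffffff73ffffffffffffffffffffffffc0fffffffffffffffffffffffaf8fffffffffffffffffffffffffc357ffffffffffffffffffffff8bffffffffffffffffffffffffff79ffffffffffffffffffffffffffffffffff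fffffffffffffffffffffffffffffffffffffffffffffffffffdefffffffffffffffffffffff7dfffffffffffffffffffffffffffffffffffffffffffffffffffffffffffffffffffffffffffffffffffeffffffffffffffffffffffffffffffffffffffffffffffffffff8ef3ffffffffffffffffffffffffc7f1ffffffffffffffffffffffffc6ffffffffffffffffffffffffff8eff2257f9dfffffb5fffffffffff8fffffffffffffffffffffffffffff3ffffffffffdbfffffcfff2e4ffffffffffffffffffffffffffffffffffffffffeb7fffff17fd5fffffffffffffffffffffffffffffffffffff5ffc7fffffaffffffffffffffffffffffffffffffffffffffffffffffffff57fffff87fffe1fffffffffffffffffffffffffffffffffffc7fffc9fffffb1ffffffffffffffffffffffffffffffffffffffff99fffffffffffffffffffffffffffffffffffffffffffffffffffffffffffffffffffffffffff9bffffffffffffffffffffffffffffffffffffffd4fffffffffa77fffffffffffffffffffffffffffffffffffffffcb67ffffffffb3ffffffffffffffffffffffffffffffffffffffffa1fffffffffffffffffffffffffffffffffffffffffffffffffffffffffffffffffffffffe8fffffffffffffffffffffffff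ffffffffffffa5ffffffffffffffffffffffffffffffffffffffffffffffffffffffffffffffffffffff4fffffffffffffffffffffffffffffffffffffffffffffffffffffefffffffffffffffffffffffff8dffffffffffffb3f5ffffffffffffffffffffffffffffffffffffffb2ffffffffffff8dfffffe0ffa377fffffffffffffffffffffffffffffffffffffffffffffcf6ffcbfffffffffffffffffffffffffffffffffffffffffffffffb9ffffffffffffffffffffffffffffffffffffffffffffffffffffffffffffffffeeffffffffffffffffffffffffffffffffffffffffffffbdfffffffffffffffffffffffffffffffffffffffffffffffffffffffffffffff7fffffffffffffffffffffffffffffffffffffffffffffffffffffedffffffffffffffffffffffffffffffffffffff8cfffffa9f7fffffffffffffffffffffffffffffffffffffffffffffa8fffff8ccdfffffffffffffffffffffffffffffffffffffffffffffffffffffffffffe7fffffffffffffffffffffffffffffffffffffffffffffffffffffafffffffffffffffffffffffffffffffffffffffffffffe2ffa1f9ffffffffffffffffffffffffffffffffffffffffffffffffe83f8bffd3ffffffffffffffffffffffffffffffffffffffffffffffff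c519fbffffffffffffffffffffffffffffffffffffffffffffffffffcc0affffffffffffffffffffffffffc6ffffffffffffb2fffffa8fe80c7fffffffffffffffffffffffffffc7ffffffffffffb3fffffa9fe84cfffff7e7ff7ffffff5fffffffffff9f1fffffffffff7ffffff6ffd7a7ffffffffffffffffffffffffffffffffffffffffffffffffffffffffffffffffffff9ffffff97fe3fffffffff87fdffffffddfffffffffffffffffffffffffffffffffffffffffffffffffffffffffffffffffffffffffffffb7fffffb3fffd7fffffffabfffd3fffffd1ffffffffffffffffffffffffffffffffffffffffffffffffffffffffffffffffffffcffffffffffffffffffffffffffffffffffffffffffffffffcdffffffffffffffffffffffffffffffffffffffffffffffffffffffffffffffffffe5fffffffff931fffffffffff8b0fffffffffc1ffffffffffffffffffffffffffffffffffffffffffffffffffffffffffffffffffffbffffffffffffffffffffffffffffffffffffffffffffef7ffffffffffffffffffffffffffffffffffffffffffffffffffffffffffffffffbbffffffffffffffffffffffffffffffffffffffffff73ffffffffffffffffffffffffffffffffffffffffffffffffffffffffffffffffffffff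ffffffffffb7ffffffffffffb5ffffffffffffffffffffffffffffffffffffff89ffffffffffffb1ffffffffffffb0ffffffffffff89fffffd9ff62bffffffffffffffffff5aaffa9fffffffffffffffffffffffffffffffffffffffffffffffffffffffffffffffffffffffffffa7ffffffffffffffffffffffffffffffffffffe97fffffffffffffffffffffffffffffffffffffffffffffffffffffffffffffffffffffffa3fffffffffffffffffffffffffffffffffff43ffffffffffffffffffffffffffffffffffffffffffffffffffffffffffffffffffffffffffffffff9ffffffffffffffffffff9dfffffffffffffffffffffffffffffffffffffffffffff88fffffa7fffffffffffffffffffa6fffff889bfffffffffffffffffffffffffffffffccffffffffffffffffffffffffffffffffffffffffffffffffffffffffffffffffffffffffffffffffe5fffffffffffffffffffffff95ffffffffffffffffffffffffffffffffffffffffffffffffe1ff9fffffffffffffffffffffffe7bf87ff27ffffffffffffffffffffffff91ffffffffffffffffffffffffffffffffffffffffffffffffffc317ffffffffffffffffffffffffcb06ffffffffffffffffffffffffffc7ffffffffffffffffffffffffffc6ffffffffffff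b0fffffa6fe78b7fffffffffffffb1fffffa7fe7cbfffffffc5ff121ffff0a0ff81fffffffffffffffffffffffffffffffffffffffffffffffffffffffffffffffffffffffffffffffffffffffff7fffffffffffffffffffffffdf7fffffffffffffffffffffffffffffffffffffffffffffffffffffffffffffffffffffffffffffffffffff7bffffffffffffffffffffef3ffffffffffffffffffffffffffffffffffffffffffffffffffffffffffffffffffffffffffffffffffffffffffffff77fffff75fffffffffffffffffffffffffffffffffffffffffffffffffffffffffffffffffffffffff85fffffa5fffffa4fffff8573fffffffffffffffffb8ffffffffffffffffffffffffffffffffffffffffffffffffffffffffffffffffffffffffffffffffffffffffffffffdbfffffffff6dffffffffffffffffffffffffffffffffffffffffffffffffffffffffffffffffffffffffffffe13f9dffffffffe73f84fed7ffffffffff69ffffffffffffffffffffffffffffffffffffffffffffffffffffffffffffffffffffffffffffffc195ffffffffffca03ffffffffffffffffffffffffffffffffffffffffb3ffffffffffffb2ffffffffffffb1ffffffffffffb0fffffa4fe70a7ffffffa5fe74aff5fffffffffffaeffffff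fffffffffffffffffffffffffffffffffffffffffffffffffffffffffffffffffffffffffffffffffffffffffffffffd6ff59ffffffffffffffffffffffffffffffffffffffffffffffffffffffffffffffffffffffffffffffffffffffffffe0bf9bfe6bf82feaffff55ffffffffffffffffffffffffffffffffffffffffffffffffffffffffffffffffffffffffffffffffffffffffffffc093fffc901fffffffffffffffffffffffffffffffffffffffffffffffa9fffffa8fffffffffffffffffffa7fffffa6fffffa5fffffa4fe6897ffe6c9fffe8d17fffffffffffffffffffffffffffffffffffffffffffffffffffffffffffffffffffffffffffffffffffffffffffffffffff0044800ffffffffffffffffffffffffffffffffffffffffffffffffffe87fa0ffffffffffffffffffffffe7ff9effffffffe77f9cfe6ff9a21fc8ffffffffffffffffffffffffffffffffffffffffffffffffffffffcc98ffffffffffffffffffffffffcb96ffffffffffca94fffc9922243fff1fffffffffffffffffffffffff8effffffffffff8dfffff8cfe2c57fffffffffffff89fffff88fe1c37ffffff85fe101fffe080ff01fffff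
def IB : ℕ := nat_lit 0xfffffffffffffffffffffffffffffeb7ffffe33fffffd7ffffeb7ffffffd6ffffffafffffc67ffffd6fffffffffffffffffffffffffffffffffffffb119bd8fffffffffffffffec7fff0bfff85fffd3fffec7fffffff87fc9fffe4fe37fffffff87ffffffffb119bd8ffffffffffffffffffffffffffffb0de358fffffffffc3ffffffc6ffc9fffe4ffc3ffffffd8fffe9ffff0bfff85fffd8ffffffffffffffffb0de358ffffffffffffffffffffffffffffffffffffeb7ffffe33fffffd7ffffeb7ffffffd6ffffffafffffc67ffffd6ffffffffffffffffffffffffffffff91a5248689b5b412f688991a52487dfffbe67fffb3adfffd67dfffbe8ffffc7a5fffd285fffc28ffffc791a5248689b5b412f688991a524888ca5c4ffffffffffffff88ca5c411fff88fffd2fffec3fff11fff88c5fffe2fe3bfffffff97fc5fffe288ca5c4ffffffffffffff88ca5c4528f9a9ffffffffffffff528f9a9bdfffdefea3fffffffeffbdfffde55fffaafffeeffffa3fff55fffaa528f9a9ffffffffffffff528f9a991a5248689b5b412f688991a52487dfffbe67fffb3adfffd67dfffbe8ffffc7a5fffd285fffc28ffffc791a5248689b5b412f688991a524890934c81345e8969ad33490934c88ffffc785ff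fc2a5fffd28ffffc77dfffbeadfffd667fffb37dfffbe90934c81345e8969ad33490934c853cd1a9ffffffffffffff53cd1a955fffaaffff47fff77fff55fffaabdfffdefff7ffffffd47fbdfffde53cd1a9ffffffffffffff53cd1a9892d944ffffffffffffff892d944c5fffe2ffcbffffffc77fc5fffe211fff88fffd87ffe97fff11fff88892d944ffffffffffffff892d94490934c81345e8969ad33490934c88ffffc785fffc2a5fffd28ffffc77dfffbeadfffd667fffb37dfffbe90934c81345e8969ad33490934c8fffffffffffffffffffffffffffffeb7ffffe33fffffd7ffffeb7ffffffd6ffffffafffffc67ffffd6fffffffffffffffffffffffffffffffffffffb119bd8fffffffffffffffec7fff0bfff85fffd3fffec7fffffff87fc9fffe4fe37fffffff87ffffffffb119bd8ffffffffffffffffffffffffffffb0de358fffffffffc3ffffffc6ffc9fffe4ffc3ffffffd8fffe9ffff0bfff85fffd8ffffffffffffffffb0de358ffffffffffffffffffffffffffffffffffffeb7ffffe33fffffd7ffffeb7ffffffd6ffffffafffffc67ffffd6ffffffffffffffffffffffffffffff23bbb11beb85dfca6566523bbb11f9ffffcf7ffffb05fff82f9ffffccffffe727fff93dbfffedcffffe723bbb11beb85dfca656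6523bbb11d8e8b6cffffffffffffffd8e8b6cb3fffd9ffffbfffee3fffb3fffd909fff84ff03ffffffe1ff09fff84d8e8b6cffffffffffffffd8e8b6cf47e0fafffffffffffffff47e0fa2bfff95feefffffffde7f2bfff95a7fffd3fffdb7fffbffffa7fffd3f47e0fafffffffffffffff47e0fa23bbb11beb85dfca6566523bbb11f9ffffcf7ffffb05fff82f9ffffccffffe727fff93dbfffedcffffe723bbb11beb85dfca6566523bbb11ffffffffffffffffffffffffffffffff1fffffe6fffffce7fffff1fffed7fffff6bffffe1bffffed7fffffffffffffffffffffffffffffffffffffffffffffd538a6afffffffffffcffff33fff8bfffc5ffffcffff53ffffffebff0ffff87ff53fffffffffffffffffd538a6affffffffffffffe980d74fffffffffffffffffc97f1ffff8ffeafffffffc97ffe83fff31fff98fffc07ffe83ffffffffffe980d74ffffffffffffffffffffffffffffffffffffffffffffff1fffffe6fffffce7fffff1fffed7fffff6bffffe1bffffed7ffffffffffffffffffffffffffffffffffffffffffffffffffffffffffffffdcfffffcf7fffff0fffffdcffff6fffffe0ffffff27fffff6ffffffffffffffffffffffffffffffffffffffffffffffcc06e66ffffffffffc57ffe43fff43fffa1fffc57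ffe6fffffffd7ff45fffa2fe6ffffffffffffffffffcc06e66fffffffffffffff076af8fffffffffffffffffe87f2ffff97ff3fffffffe87fffc7fff7ffffbffffe57fffc7fffffffffff076af8fffffffffffffffffffffffffffffffffffffffffffffdcfffffcf7fffff0fffffdcffff6fffffe0ffffff27fffff6ffffffffffffffffffffffffffffffff23bbb11beb85dfca6566523bbb11f9ffffcf7ffffb05fff82f9ffffccffffe727fff93dbfffedcffffe723bbb11beb85dfca6566523bbb11d8e8b6cffffffffffffffd8e8b6cb3fffd9ffffbfffee3fffb3fffd909fff84ff03ffffffe1ff09fff84d8e8b6cffffffffffffffd8e8b6cf47e0fafffffffffffffff47e0fa2bfff95feefffffffde7f2bfff95a7fffd3fffdb7fffbffffa7fffd3f47e0fafffffffffffffff47e0fa23bbb11beb85dfca6566523bbb11f9ffffcf7ffffb05fff82f9ffffccffffe727fff93dbfffedcffffe723bbb11beb85dfca6566523bbb1123db711cab0ce5be2d75f23db711cffffe7dbfffed27fff93cffffe7f9ffffc05fff82f7ffffbf9ffffc23db711cab0ce5be2d75f23db711f504ffafffffffffffffff504ffaa7fffd3ffff7fffedbfffa7fffd32bfff95fef3ffffffddff2bfff95f504ffafffffffffffffff504ffad859d6c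ffffffffffffffd859d6c09fff84ff0fffffffe07f09fff84b3fffd9fffdc7fffdffffb3fffd9d859d6cffffffffffffffd859d6c23db711cab0ce5be2d75f23db711cffffe7dbfffed27fff93cffffe7f9ffffc05fff82f7ffffbf9ffffc23db711cab0ce5be2d75f23db711fffffffffffffffffffffffffffffffedfffffe4fffffc1fffffedfffee7fffff87ffffe7bffffee7ffffffffffffffffffffffffffffffffffffffffffffff154ef8fffffffffff8ffff2bfff7ffffbfffff8ffff43ffffffe7ff2ffff97ff43ffffffffffffffffff154ef8ffffffffffffffcd700e6fffffffffffffffffcdff45fffa2febfffffffcdfffe2bfff43fffa1fffc87ffe2bffffffffffcd700e6fffffffffffffffffffffffffffffffffffffffffffffedfffffe4fffffc1fffffedfffee7fffff87ffffe7bffffee7ffffffffffffffffffffffffffffffffffffffffffffffffffffffffffffffdafffffc37ffffed7ffffdaffff8fffffe73fffff37fffff8ffffffffffffffffffffffffffffffffffffffffffffffe86b074ffffffffffd07ffe03fff31fff98fffd07ffe4bffffffd5ff1ffff8ffe4bfffffffffffffffffe86b074ffffffffffffffd45276afffffffffffffffffea7f0ffff87ff5fffffffea7fffe7fff8bfffc5f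ffe67fffe7ffffffffffd45276afffffffffffffffffffffffffffffffffffffffffffffdafffffc37ffffed7ffffdaffff8fffffe73fffff37fffff8ffffffffffffffffffffffffffffffff23db711cab0ce5be2d75f23db711cffffe7dbfffed27fff93cffffe7f9ffffc05fff82f7ffffbf9ffffc23db711cab0ce5be2d75f23db711f504ffafffffffffffffff504ffaa7fffd3ffff7fffedbfffa7fffd32bfff95fef3ffffffddff2bfff95f504ffafffffffffffffff504ffad859d6cffffffffffffffd859d6c09fff84ff0fffffffe07f09fff84b3fffd9fffdc7fffdffffb3fffd9d859d6cffffffffffffffd859d6c23db711cab0ce5be2d75f23db711cffffe7dbfffed27fff93cffffe7f9ffffc05fff82f7ffffbf9ffffc23db711cab0ce5be2d75f23db711fffffffffffffffffffffffffffffeb7ffffe33fffffd7ffffeb7ffffffd6ffffffafffffc67ffffd6fffffffffffffffffffffffffffffffffffffb119bd8fffffffffffffffec7fff0bfff85fffd3fffec7fffffff87fc9fffe4fe37fffffff87ffffffffb119bd8ffffffffffffffffffffffffffffb0de358fffffffffc3ffffffc6ffc9fffe4ffc3ffffffd8fffe9ffff0bfff85fffd8ffffffffffffffffb0de358ffffffffffffffffffffffffffffff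ffffffeb7ffffe33fffffd7ffffeb7ffffffd6ffffffafffffc67ffffd6ffffffffffffffffffffffffffffff91a5248689b5b412f688991a52487dfffbe67fffb3adfffd67dfffbe8ffffc7a5fffd285fffc28ffffc791a5248689b5b412f688991a524888ca5c4ffffffffffffff88ca5c411fff88fffd2fffec3fff11fff88c5fffe2fe3bfffffff97fc5fffe288ca5c4ffffffffffffff88ca5c4528f9a9ffffffffffffff528f9a9bdfffdefea3fffffffeffbdfffde55fffaafffeeffffa3fff55fffaa528f9a9ffffffffffffff528f9a991a5248689b5b412f688991a52487dfffbe67fffb3adfffd67dfffbe8ffffc7a5fffd285fffc28ffffc791a5248689b5b412f688991a524890934c81345e8969ad33490934c88ffffc785fffc2a5fffd28ffffc77dfffbeadfffd667fffb37dfffbe90934c81345e8969ad33490934c853cd1a9ffffffffffffff53cd1a955fffaaffff47fff77fff55fffaabdfffdefff7ffffffd47fbdfffde53cd1a9ffffffffffffff53cd1a9892d944ffffffffffffff892d944c5fffe2ffcbffffffc77fc5fffe211fff88fffd87ffe97fff11fff88892d944ffffffffffffff892d94490934c81345e8969ad33490934c88ffffc785fffc2a5fffd28ffffc77dfffbeadfffd667fffb37dfffbe90934c81345e8969ad33490934c8fffffffffffffffffffffffffffffeb7ffffe33fffffd7ffffeb7ffffffd6ffffffafffffc67ffffd6fffffffffffffffffffffffffffffffffffffb119bd8fffffffffffffffec7fff0bfff85fffd3fffec7fffffff87fc9fffe4fe37fffffff87ffffffffb119bd8ffffffffffffffffffffffffffffb0de358fffffffffc3ffffffc6ffc9fffe4ffc3ffffffd8fffe9ffff0bfff85fffd8ffffffffffffffffb0de358ffffffffffffffffffffffffffffffffffffeb7ffffe33fffffd7ffffeb7ffffffd6ffffffafffffc67ffffd6ffffffffffffffffffffffffffffff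

def ac (i : ℕ) : ℕ := col AC i
def bc (i : ℕ) : ℕ := col BC i
def ia (n : ℕ) : ℕ := pick IA (nat_lit 7) (nat_lit 127) n
def ib (n : ℕ) : ℕ := pick IB (nat_lit 7) (nat_lit 127) n

theorem ac_lt (i : ℕ) : ac i < 4096 := col_lt ..

theorem ab_chk : allR (fun i => force (ac i) fun a => force (bc i) fun b => band (tb 5 (clN a))
    (band (Nat.beq (BN b b % 3) 2) (band (allL (fun k => Nat.beq (ia (sm k a)) i) [1, 2, 3])
      (allR (fun j => force (bc j) fun y => bimp (bor (lin3 0 0 b 1 y) (lin3 0 0 b 2 y)) (Nat.beq i j)) 126))))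
    126 = true := by decide +kernel

theorem ia_chk : allP (fun n => force (ia n) fun i => bif' (tb 5 (clN n)) (band (blt' i 126)
    (anyL (fun k => Nat.beq (sm k (ac i)) n) [1, 2, 3])) (Nat.beq i 127)) 12 0 = true := by decide +kernel

theorem ib_chk : allP (fun n => bimp (Nat.beq (BN n n % 3) 2) (force (ib n) fun i => band (blt' i 126)
    (force (bc i) fun y => bor (lin3 0 0 n 1 y) (lin3 0 0 n 2 y)))) 12 0 = true := by decide +kernel

theorem op_chk : allR (fun i => force (ac i) fun a => force (bc i) fun b => allR (fun k =>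
    force (ia (tvN a (ac k))) fun j => force (bc k) fun x => force (bc j) fun y => force (BN x b % 3) fun s =>
      band (blt' j 126) (bor (lin3 s b x 1 y) (lin3 s b x 2 y))) 126) 126 = true := by decide +kernel

/-- the transvections -/
noncomputable def tA (i : ℕ) : UU := tvV (vec (ac i))

/-- the reflections -/
noncomputable def rB (i : ℕ) : Orth.OG Q3 := Orth.refl Q3 (w3 (bc i))

theorem ab_spec {i : ℕ} (hi : i < 126) : vec (ac i) ∈ cs 5 ∧ Q3 (w3 (bc i)) = 1 ∧
    (∀ j < 126, tA i = tA j → i = j) ∧ ∀ j < 126, rB i = rB j → i = j := by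
  have H := fun i hi => allR_eq_true.1 ab_chk i hi
  simp only [force_eq, band_eq_true, M24.beq_iff, allL_eq_true, allR_eq_true, bimp_eq_true, bor_eq_true,
    lin3_iff, ← vec_mem_cs (ac_lt _), ← Q_w3, Nat.cast_zero, zero_smul, sub_zero] at H
  refine ⟨(H i hi).1, (H i hi).2.1, fun j hj e => ?_, fun j hj e => (H i hi).2.2.2 j hj ?_⟩
  · obtain ⟨c, h0, hc⟩ := tvV_inj (cs_subset (by norm_num) (H i hi).1) (cs_subset (by norm_num) (H j hj).1) e
    obtain ⟨k, hk, h4, rfl⟩ : ∃ k ∈ [1, 2, 3], k < 4 ∧ f4 k = c := by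
      clear hc
      revert c
      decide
    have h5 := sm_spec h4 (ac_lt j)
    have h6 := sm_spec (k := 1) (by norm_num) (ac_lt i)
    rw [← (H j hj).2.2.1 k hk, ← vec_inj (ac_lt _) h5.1 (hc.trans h5.2.symm),
      ← vec_inj h6.1 (ac_lt i) (h6.2.trans (one_smul _ _))]
    exact ((H i hi).2.2.1 1 (by simp)).symm
  · have h1 := congrArg (fun g : Orth.OG Q3 => g.1 (w3 (bc i))) e
    simp only [rB] at h1
    rw [Orth.refl_apply_self (by rw [(H i hi).2.1]; decide), Orth.refl_apply, (H j hj).2.1, div_one] at h1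
    have h2 : w3 (bc i) = (2 * polar Q3 (w3 (bc i)) (w3 (bc j))) • w3 (bc j) := by
      generalize polar Q3 (w3 (bc i)) (w3 (bc j)) = c at h1
      have h3 : (4 : ZMod 3) = 1 := by decide
      linear_combination (norm := module) (-2 : ZMod 3) • h1 - h3 • w3 (bc i)
    generalize 2 * polar Q3 (w3 (bc i)) (w3 (bc j)) = c at h2
    have h3 : c ≠ 0 := fun h => by
      have := (H i hi).2.1
      rw [h2, h, zero_smul, map_zero] at this
      exact absurd this (by decide)
    have : ∀ c : ZMod 3, c ≠ 0 → c = (1 : ℕ) ∨ c = (2 : ℕ) := by decide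
    rcases this c h3 with rfl | rfl
    exacts [Or.inl h2, Or.inr h2]

theorem ia_spec {n : ℕ} (hn : n < 4096) :
    (vec n ∈ cs 5 ↔ ia n < 126) ∧ (vec n ∈ cs 5 → tA (ia n) = tvV (vec n)) := by
  have := allP_zero ia_chk n hn
  rw [vec_mem_cs hn]
  simp only [force_eq, bif'_eq] at this
  split_ifs at this with h
  · simp only [band_eq_true, blt'_eq_true, anyL_eq_true, M24.beq_iff] at this
    obtain ⟨h1, k, hk, e⟩ := this
    have h2 : k < 4 ∧ f4 k ≠ 0 := by clear e; revert k; decide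
    refine ⟨iff_of_true h h1, fun _ => ?_⟩
    conv_rhs => rw [← e, (sm_spec h2.1 (ac_lt _)).2, tvV_smul _ h2.2]
    rfl
  · exact ⟨iff_of_false h (by rw [M24.beq_iff.1 this]; norm_num), fun h' => absurd h' h⟩

theorem exists_tA {v : V} (hv : v ∈ cs 5) : ∃ i < 126, tA i = tvV v := by
  obtain ⟨n, hn, rfl⟩ := exists_vec v
  exact ⟨_, (ia_spec hn).1.1 hv, (ia_spec hn).2 hv⟩

theorem refl_of_lin3 {w : W3} {y : ℕ} (h : w = ((1 : ℕ) : ZMod 3) • w3 y ∨ w = ((2 : ℕ) : ZMod 3) • w3 y) :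
    Orth.refl Q3 w = Orth.refl Q3 (w3 y) := by
  rcases h with rfl | rfl <;> exact Orth.refl_smul _ (by decide)

theorem exists_rB {w : W3} (hw : Q3 w = 1) : ∃ i < 126, rB i = Orth.refl Q3 w := by
  obtain ⟨n, hn, rfl⟩ := exists_w3 w
  have := allP_zero ib_chk n hn
  simp only [force_eq, band_eq_true, M24.beq_iff, bimp_eq_true, bor_eq_true, blt'_eq_true,
    lin3_iff, ← Q_w3, Nat.cast_zero, zero_smul, sub_zero] at this
  exact ⟨_, (this hw).1, (refl_of_lin3 (this hw).2).symm⟩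

theorem op_spec {i k : ℕ} (hi : i < 126) (hk : k < 126) :
    ∃ j < 126, tA i * tA k * (tA i)⁻¹ = tA j ∧ rB i * rB k * (rB i)⁻¹ = rB j := by
  have := allR_eq_true.1 op_chk i hi
  simp only [force_eq, band_eq_true, allR_eq_true, bor_eq_true, blt'_eq_true, lin3_iff, ZMod.natCast_mod] at this
  obtain ⟨h1, h2⟩ := this k hk
  have h3 := ia_spec (tvN_lt (ac_lt i) (ac_lt k))
  refine ⟨_, h1, ?_, ?_⟩
  · rw [h3.2 (h3.1.2 h1), vec_tvN (ac_lt i), tA, tA, tvV_conj,
      tvV_apply (mem_cs31.1 (cs_subset (by norm_num) (ab_spec hi).1)).2]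
  · rw [rB, rB, Orth.refl_conj, Orth.refl_apply, (ab_spec hi).2.1, div_one, polar_w3]
    exact refl_of_lin3 h2

/-- the pairs -/
noncomputable def DD : Subgroup (UU × Orth.OG Q3) := closure {p | ∃ i < 126, p = (tA i, rB i)}

theorem DD_conj {p : UU × Orth.OG Q3} (hp : p ∈ DD) : ∀ k < 126,
    ∃ j < 126, p.1 * tA k * p.1⁻¹ = tA j ∧ p.2 * rB k * p.2⁻¹ = rB j := by
  have key : ∀ i < 126, ∀ p : UU × Orth.OG Q3, (∀ k < 126, ∃ j < 126, p.1 * tA k * p.1⁻¹ = tA j ∧
      p.2 * rB k * p.2⁻¹ = rB j) → ∀ k < 126, ∃ j < 126, (tA i * p.1) * tA k * (tA i * p.1)⁻¹ = tA j ∧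
      (rB i * p.2) * rB k * (rB i * p.2)⁻¹ = rB j := fun i hi p ih k hk => by
    obtain ⟨j, hj, h1, h2⟩ := ih k hk
    obtain ⟨l, hl, h3, h4⟩ := op_spec hi hj
    exact ⟨l, hl, by rw [← h3, ← h1]; group, by rw [← h4, ← h2]; group⟩
  induction hp using closure_induction_left with
  | one => exact fun k hk => ⟨k, hk, by simp, by simp⟩
  | mul_left x hx y _ ih =>
    obtain ⟨i, hi, rfl⟩ := hx
    exact key i hi y ih
  | inv_mul_cancel x hx y _ ih =>
    obtain ⟨i, hi, rfl⟩ := hx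
    rw [Prod.inv_mk, tA, tvV_inv, rB, Orth.refl_inv]
    exact key i hi y ih

/-- the group generated by the 126 transvections -/
def G0 : Subgroup UU := closure (tvV '' cs 5)

/-- its derived group -/
def K0 : Subgroup UU := ⁅G0, G0⁆

theorem tvV_mem_G0 {v : V} (h : v ∈ cs 5) : tvV v ∈ G0 := subset_closure ⟨v, h, rfl⟩

theorem K0_le : K0 ≤ G0 := commutator_le_self G0

theorem G0_le : G0 ≤ SUG hh := (closure_le _).2 (by rintro _ ⟨v, -, rfl⟩; exact tvV_mem v)

theorem conj_mem_K0 {g k : UU} (hg : g ∈ G0) (hk : k ∈ K0) : g * k * g⁻¹ ∈ K0 :=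
  (mem_normalizer_iff.1 (normalizer_commutator_ge_left G0 G0 hg) k).1 hk

theorem map_fst_DD : DD.map (MonoidHom.fst _ _) = G0 := by
  rw [DD, MonoidHom.map_closure, G0]
  congr 1
  ext g
  constructor
  · rintro ⟨_, ⟨i, hi, rfl⟩, rfl⟩
    exact ⟨_, (ab_spec hi).1, rfl⟩
  · rintro ⟨v, hv, rfl⟩
    obtain ⟨i, hi, e⟩ := exists_tA hv
    exact ⟨_, ⟨i, hi, rfl⟩, e⟩

theorem map_snd_DD : DD.map (MonoidHom.snd _ _) = Orth.RR Q3 1 := by
  rw [DD, MonoidHom.map_closure, Orth.RR]
  congr 1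
  ext g
  constructor
  · rintro ⟨_, ⟨i, hi, rfl⟩, rfl⟩
    exact ⟨_, (ab_spec hi).2.1, rfl⟩
  · rintro ⟨v, hv, rfl⟩
    obtain ⟨i, hi, e⟩ := exists_rB hv
    exact ⟨_, ⟨i, hi, rfl⟩, e⟩

theorem G0_map_mem {g : UU} (hg : g ∈ G0) {v : V} (hv : v ∈ cs 5) : g.1 v ∈ cs 5 := by
  obtain ⟨p, hp, rfl⟩ := map_fst_DD.ge hg
  obtain ⟨i, hi, e⟩ := exists_tA hv
  obtain ⟨j, hj, h, -⟩ := DD_conj hp i hi
  rw [e, tvV_conj] at h
  obtain ⟨c, hc, h1⟩ := tvV_inj (map_mem_cs31 _ (cs_subset (by norm_num) hv))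
    (cs_subset (by norm_num) (ab_spec hj).1) h
  exact h1 ▸ (smul_mem_cs hc).2 (ab_spec hj).1

theorem pm_swap {x y : Fin 6} (h : x ≠ y) : pm (swap x y) = tvV (Pi.single x 1 + Pi.single y 1) := by
  refine UU_ext fun i => ?_
  rw [tvV_apply (by revert x y; decide +kernel), pm_single]
  revert x y i
  decide +kernel

theorem Mon_top_le : Mon ⊤ ≤ G0 := by
  have h1 : ∀ x y : Fin 6, x ≠ y → ∀ c : F4ˣ, Pi.single x 1 + Pi.single y (c : F4) ∈ cs 5 := by
    simp only [cs, Set.mem_setOf_eq]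
    decide +kernel
  refine Mon_le (fun d hd => ?_) fun π _ => ?_
  · have h2 : ∀ i c, dg (Pi.mulSingle i c * Pi.mulSingle 0 c⁻¹) ∈ G0 := fun i c => by
      by_cases hi : i = 0
      · rw [hi, ← Pi.mulSingle_mul, mul_inv_cancel, Pi.mulSingle_one, map_one]; exact one_mem _
      convert mul_mem (tvV_mem_G0 (h1 i 0 hi 1)) (tvV_mem_G0 (h1 i 0 hi c)) using 1
      refine UU_ext fun k => ?_
      rw [UG.mul_apply, tvV_apply (mem_cs31.1 (cs_subset (by norm_num) (h1 i 0 hi 1))).2,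
        tvV_apply (mem_cs31.1 (cs_subset (by norm_num) (h1 i 0 hi c))).2, dg_single]
      revert i c k
      decide +kernel
    have h3 : d = ∏ i, Pi.mulSingle i (d i) * Pi.mulSingle 0 (d i)⁻¹ := by
      rw [Finset.prod_mul_distrib, Finset.univ_prod_mulSingle, eq_comm, mul_eq_left]
      exact (map_prod (MonoidHom.mulSingle (fun _ : Fin 6 => F4ˣ) 0) _ _).symm.trans (by
        rw [Finset.prod_inv_distrib, hd, inv_one, map_one])
    rw [h3]
    exact prod_mem (S := G0.comap dg) fun i _ => h2 i _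
  · induction π using Perm.swap_induction_on with
    | one => rw [map_one]; exact one_mem _
    | swap_mul f x y h ih =>
      rw [map_mul, pm_swap h]
      exact mul_mem (tvV_mem_G0 (h1 x y h 1)) (ih trivial)

theorem sq_mem_K0 {g : UU} (hg : g ∈ G0) : g * g ∈ K0 := by
  have key : ∀ v ∈ cs 5, ∀ g ∈ G0, g * g ∈ K0 → tvV v * g * (tvV v * g) ∈ K0 := fun v hv g hg ih => by
    have := mul_mem (commutator_mem_commutator (tvV_mem_G0 hv) hg) ih
    rwa [commutatorElement_def, tvV_inv, mul_assoc _ g⁻¹, inv_mul_cancel_left, mul_assoc] at this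
  induction hg using closure_induction_left with
  | one => rw [mul_one]; exact one_mem _
  | mul_left x hx y hy ih =>
    obtain ⟨v, hv, rfl⟩ := hx
    exact key v hv y hy ih
  | inv_mul_cancel x hx y hy ih =>
    obtain ⟨v, hv, rfl⟩ := hx
    rw [tvV_inv]
    exact key v hv y hy ih

theorem mem_K0_of_cube {g : UU} (hg : g ∈ G0) (h : g ^ 3 = 1) : g ∈ K0 := by
  have := sq_mem_K0 (mul_mem hg hg)
  rwa [show g * g * (g * g) = g ^ 3 * g by simp only [pow_succ, pow_zero, one_mul, mul_assoc], h,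
    one_mul] at this

theorem Mon_alt_le : Mon (alternatingGroup (Fin 6)) ≤ K0 := by
  refine Mon_le (fun d hd => mem_K0_of_cube (Mon_top_le (dg_mem hd)) ?_) fun π hπ => ?_
  · have key : ∀ c : F4ˣ, c ^ 3 = 1 := by decide
    rw [← map_pow, show d ^ 3 = 1 from funext fun i => key _, map_one]
  · rw [← Perm.closure_three_cycles_eq_alternating] at hπ
    refine (closure_le (K0.comap pm)).2 (fun c hc => ?_) hπ
    exact mem_K0_of_cube (Mon_top_le (pm_mem trivial))
      (by rw [← map_pow, ← Perm.IsThreeCycle.orderOf hc, pow_orderOf_eq_one, map_one])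

theorem sc_mem_K0 (c : F4ˣ) : sc c ∈ K0 := Mon_alt_le (sc_mem c _)

theorem nondeg_Q3 : Orth.Nondeg Q3 := (Orth.nondeg_normQ fq_F9.exists_star_ne).hsum 2

theorem finrank_W3 : Module.finrank (ZMod 3) W3 = 6 := by
  rw [Orth.finrank_hsum_space, QuadraticAlgebra.finrank_eq_two]

theorem EE_Q3 : commutator (Orth.OG Q3) = Orth.EE Q3 :=
  nondeg_Q3.commutator_eq_EE_of_finite (by rw [finrank_W3]; norm_num)

theorem DD_ker {p : UU × Orth.OG Q3} (hp : p ∈ DD) :
    (∃ c, p.1 = sc c) ↔ p.2 = 1 ∨ p.2 = Orth.negOne Q3 := by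
  constructor
  · rintro ⟨c, hc⟩
    refine Orth.eq_one_or_negOne_of_comm nondeg_Q3 (by rw [finrank_W3]; norm_num) (Orth.hsum_HP _ 0)
      fun k hk => ?_
    refine (closure_le (centralizer {p.2})).2 ?_ (Orth.EE_le_RR nondeg_Q3 (by rw [finrank_W3]; norm_num)
      (by decide) (c := 1) (by decide) hk) _ rfl |>.symm
    rintro _ ⟨v, hv, rfl⟩ _ rfl
    obtain ⟨i, hi, e⟩ := exists_rB hv
    obtain ⟨j, hj, h1, h2⟩ := DD_conj hp i hi
    rw [hc, ← sc_comm, mul_inv_cancel_right] at h1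
    rw [← (ab_spec hi).2.2.1 j hj h1, mul_inv_eq_iff_eq_mul] at h2
    exact e ▸ h2
  · intro h
    refine exists_sc_of_comm fun g hg => ?_
    refine (closure_le (centralizer {p.1})).2 ?_ (K0_le (Mon_alt_le hg)) _ rfl |>.symm
    rintro _ ⟨v, hv, rfl⟩ _ rfl
    obtain ⟨i, hi, e⟩ := exists_tA hv
    obtain ⟨j, hj, h1, h2⟩ := DD_conj hp i hi
    have h3 : rB i = rB j := by
      rcases h with h | h
      · rwa [h, one_mul, inv_one, mul_one] at h2
      · rwa [h, ← Orth.negOne_comm, mul_inv_cancel_right] at h2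
    rw [← (ab_spec hi).2.2.2 j hj h3, mul_inv_eq_iff_eq_mul] at h1
    exact e ▸ h1

theorem exists_DD_of_K0 {g : UU} (hg : g ∈ K0) : ∃ r ∈ commutator (Orth.OG Q3), (g, r) ∈ DD := by
  rw [K0, ← map_fst_DD, ← map_commutator] at hg
  obtain ⟨p, hp, rfl⟩ := hg
  refine ⟨p.2, ?_, commutator_le_self DD hp⟩
  exact (commutator_mono le_top le_top) ((map_commutator ..).le (mem_map_of_mem (MonoidHom.snd _ _) hp))

theorem mem_center_K0 {g : K0} : g ∈ center K0 ↔ ∃ c, g.1 = sc c :=
  ⟨fun h => exists_sc_of_comm fun k hk => congrArg Subtype.val (mem_center_iff.1 h ⟨k, Mon_alt_le hk⟩),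
    fun ⟨c, h⟩ => mem_center_iff.2 fun k => Subtype.ext (by
      rw [coe_mul, coe_mul, h, sc_comm])⟩

theorem card_center_K0 : Nat.card (center K0) = 3 := by
  rw [← card_units]
  refine (Nat.card_eq_of_bijective (fun c => ⟨⟨sc c, sc_mem_K0 c⟩, mem_center_K0.2 ⟨c, rfl⟩⟩)
    ⟨fun a b h => sc_injective (congrArg (fun x => x.1.1) h), fun g => ?_⟩).symm
  obtain ⟨c, hc⟩ := mem_center_K0.1 g.2
  exact ⟨c, Subtype.ext (Subtype.ext hc.symm)⟩

theorem nonempty_K0_equiv {F : Type*} [Field F] [Fintype F] (hF : Fintype.card F = 9) :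
    Nonempty (K0 ⧸ center K0 ≃* PSU 4 F 3) := by
  obtain ⟨e⟩ := nonempty_POmega_six_minus (F := ZMod 3) (a := -1) (b := 0)
  refine (nonempty_quot_equiv (DD.comap (K0.subtype.prodMap (commutator (Orth.OG Q3)).subtype))
    (center K0) (center _) (fun g => ?_) (fun r => ?_) fun p hp => ?_).map fun f => (f.trans e).trans
      (Lin.quotCenterCongr (suCongr (FiniteField.ringEquivOfCardEq (card_F9.trans hF.symm)) 4 3))
  · obtain ⟨r, hr, h⟩ := exists_DD_of_K0 g.2
    exact ⟨⟨r, hr⟩, h⟩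
  · have h5 : 5 ≤ Module.finrank (ZMod 3) W3 := by rw [finrank_W3]; norm_num
    have h1 := Orth.EE_le_RR nondeg_Q3 h5 (by decide) (c := 1) (by decide)
    have h2 : r.1 ∈ ⁅Orth.RR Q3 1, Orth.RR Q3 1⁆ := commutator_mono h1 h1 (by
      rw [CA.FG.Comp.qs_commutator (nondeg_Q3.isQuasisimple_EE h5), ← EE_Q3]; exact r.2)
    rw [← map_snd_DD, ← map_commutator] at h2
    obtain ⟨p, hp, e⟩ := h2
    refine ⟨⟨p.1, ?_⟩, ?_⟩
    · rw [K0, ← map_fst_DD, ← map_commutator]
      exact mem_map_of_mem _ hp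
    · change (p.1, r.1) ∈ DD
      rw [← e]
      exact commutator_le_self DD hp
  · rw [mem_center_K0]
    refine (DD_ker hp).trans ?_
    have := Orth.mem_center_EE nondeg_Q3 (by rw [finrank_W3]; norm_num) (Orth.hsum_HP _ 0)
      (g := ⟨p.2.1, EE_Q3.le p.2.2⟩)
    refine this.symm.trans ?_
    simp only [mem_center_iff, Subtype.forall, Subtype.ext_iff, coe_mul, ← EE_Q3]

theorem card_PSU43 {F : Type*} [Field F] [Fintype F] (hF : Fintype.card F = 9) :
    Nat.card (PSU 4 F 3) = 2 ^ 7 * 3 ^ 6 * 5 * 7 := by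
  have := fq_F9.card_PSU (n := 4) (by norm_num)
  rw [Nat.card_congr (Lin.quotCenterCongr
    (suCongr (FiniteField.ringEquivOfCardEq (hF.trans card_F9.symm)) 4 3)).toEquiv]
  change 4 * (4 * Nat.card (PSU 4 F9 3)) = 4 * (4 * (2 ^ 7 * 3 ^ 6 * 5 * 7)) at this
  exact Nat.eq_of_mul_eq_mul_left (by norm_num) (Nat.eq_of_mul_eq_mul_left (by norm_num) this)

theorem card_K0 : Nat.card K0 = 2 ^ 7 * 3 ^ 7 * 5 * 7 := by
  obtain ⟨e⟩ := nonempty_K0_equiv card_F9
  rw [card_eq_card_quotient_mul_card_subgroup (center K0), Nat.card_congr e.toEquiv, card_PSU43 card_F9,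
    card_center_K0]
  norm_num

theorem simple_K0 : IsSimpleGroup (K0 ⧸ center K0) := by
  obtain ⟨e⟩ := nonempty_K0_equiv card_F9
  have := fq_F9.isSimpleGroup_PSU (n := 4) (by norm_num) (by norm_num)
  exact e.isSimpleGroup

theorem tvV_not_mem {v : V} (hv : v ∈ cs 5) : tvV v ∉ K0 := fun h => by
  have h5 : 5 ≤ Module.finrank (ZMod 3) W3 := by rw [finrank_W3]; norm_num
  obtain ⟨i, hi, e⟩ := exists_tA hv
  obtain ⟨r, hr, h1⟩ := exists_DD_of_K0 h
  have h2 := (DD_ker (mul_mem (inv_mem h1) (subset_closure ⟨i, hi, rfl⟩ : (tA i, rB i) ∈ DD))).1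
    ⟨1, by simp [e]⟩
  have h3 : Orth.dickson nondeg_Q3 h5 r = 1 := Abelianization.commutator_subset_ker _ hr
  have h4 : Orth.dickson nondeg_Q3 h5 (r⁻¹ * rB i) = -1 := by
    rw [map_mul, map_inv, h3, rB, Orth.dickson_refl _ _ (by rw [(ab_spec hi).2.1]; decide)]; simp
  change r⁻¹ * rB i = _ ∨ r⁻¹ * rB i = _ at h2
  rcases h2 with h2 | h2
  · rw [h2, map_one] at h4; exact absurd h4 (by decide)
  · rw [h2, Orth.dickson_negOne _ _ (by decide), finrank_W3] at h4; exact absurd h4 (by decide)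

theorem realizeEqns_U6Refl : True := by
  have := @CA.U6.BN.eq_1
  have := @CA.U6.BN.eq_def
  have := @CA.U6.BN.congr_simp
  have := @CA.U6.rB.eq_1
  have := @CA.U6.rB.eq_def
  have := @CA.U6.rB.congr_simp
  have := @CA.U6.lin3.eq_1
  have := @CA.U6.lin3.eq_def
  have := @CA.U6.lin3.congr_simp
  have := @CA.U6.d3.eq_1
  have := @CA.U6.d3.eq_def
  have := @CA.U6.d3.congr_simp
  have := @CA.U6.AC.eq_1
  have := @CA.U6.AC.eq_def
  have := @CA.U6.AC.congr_simp
  have := @CA.U6.DD.eq_1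
  have := @CA.U6.DD.eq_def
  have := @CA.U6.DD.congr_simp
  have := @CA.U6.bc.eq_1
  have := @CA.U6.bc.eq_def
  have := @CA.U6.bc.congr_simp
  have := @CA.U6.IA.eq_1
  have := @CA.U6.IA.eq_def
  have := @CA.U6.IA.congr_simp
  have := @CA.U6.IB.eq_1
  have := @CA.U6.IB.eq_def
  have := @CA.U6.IB.congr_simp
  have := @CA.U6.BC.eq_1
  have := @CA.U6.BC.eq_def
  have := @CA.U6.BC.congr_simp
  have := @CA.U6.tA.eq_1
  have := @CA.U6.tA.eq_def
  have := @CA.U6.tA.congr_simp
  have := @CA.U6.w3.eq_1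
  have := @CA.U6.w3.eq_def
  have := @CA.U6.w3.congr_simp
  have := @CA.U6.W3.eq_1
  have := @CA.U6.W3.eq_def
  have := @CA.U6.W3.congr_simp
  have := @CA.U6.K0.eq_1
  have := @CA.U6.K0.eq_def
  have := @CA.U6.K0.congr_simp
  have := @CA.U6.ac.eq_1
  have := @CA.U6.ac.eq_def
  have := @CA.U6.ac.congr_simp
  have := @CA.U6.tvV.eq_1
  have := @CA.U6.tvV.eq_def
  have := @CA.U6.tvV.congr_simp
  have := @CA.U6.ia.eq_1
  have := @CA.U6.ia.eq_def
  have := @CA.U6.ia.congr_simp
  have := @CA.U6.Q3.eq_1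
  have := @CA.U6.Q3.eq_def
  have := @CA.U6.Q3.congr_simp
  have := @CA.U6.G0.eq_1
  have := @CA.U6.G0.eq_def
  have := @CA.U6.G0.congr_simp
  have := @CA.U6.ib.eq_1
  have := @CA.U6.ib.eq_def
  have := @CA.U6.ib.congr_simp
  trivial

end CA.U6
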