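/-
The stabilizer of a vector of the short orbit and the hundred and eighty points.
-/
import Cfsg.Agent.U6.Tri
import Cfsg.Agent.U6.PatQ

set_option autoImplicit false

namespace CA.U6

open Cfsg Cfsg.Agent Cfsg.Agent.Unit CA.M24 Subgroup CA.FG CA.Fi

noncomputable abbrev SW : Subgroup L2 := KK ⊓ MulAction.stabilizer L2 (vec 63)

theorem card_SW : Nat.card SW = 25920 := by
  have := card_orbit_mul KK (vec 63)
  rw [show MulAction.orbit KK (vec 63) = cs 5 from Set.Subset.antisymm
    (by rintro _ ⟨⟨_, k, hk, rfl⟩, rfl⟩; exact G0_map_mem (K0_le hk) vec63_mem) fun w hw => by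
      obtain ⟨k, e⟩ := (orbit_K0_5 vec63_mem).ge hw
      exact ⟨⟨_, k, k.2, rfl⟩, e⟩, card_cs (by norm_num), card_KK, show nn 5 = 378 from rfl] at this
  rw [← Nat.card_congr (subgroupOfEquivOfLe inf_le_left).toEquiv, inf_subgroupOf_left]
  change Nat.card (MulAction.stabilizer KK (vec 63)) = _
  omega

theorem hh63 : hh (vec 63) (vec 63) = 0 := by decide

theorem SW_FV {g : L2} (hg : g ∈ SW) {w : V} (hw : w ∈ FV (vec 63)) : g w = w := by
  obtain ⟨c, rfl⟩ := hw
  rw [KK_lin hg.1]; exact congrArg _ hg.2

/-- The vectors of the forty-five lines. -/
def WS : Set V := {w | w ∈ cs 5 ∧ hh w (vec 63) = 0 ∧ w ∉ FV (vec 63)}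

noncomputable def TW (w : V) : L2 := io (tvV (vec 63) * tvV w)

theorem iso5 {w : V} (hw : w ∈ cs 5) : hh w w = 0 := (mem_cs31.1 (cs_subset (by norm_num) hw)).2

theorem TW_apply {w : V} (hw : w ∈ WS) {u : V} (hu : hh u (vec 63) = 0) : TW w u = u + hh u w • w := by
  change (tvV (vec 63)).1 ((tvV w).1 u) = _
  rw [tvV_apply hh63, tvV_apply (iso5 hw.1)]
  simp [hu, hw.2.1]

theorem TW_mem {w : V} (hw : w ∈ WS) : TW w ∈ SW :=
  ⟨mem_map_of_mem _ ((mul_mem_K0 (tvV_mem_G0 vec63_mem) (tvV_mem_G0 hw.1)).2
    (iff_of_false (tvV_not_mem vec63_mem) (tvV_not_mem hw.1))), by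
      change TW w _ = _
      rw [TW_apply hw hh63, Herm.eq_zero_comm hw.2.1, zero_smul, add_zero]⟩

theorem TW_conj {g : L2} (hg : g ∈ SW) (w : V) : g * TW w * g⁻¹ = TW (g w) := by
  obtain ⟨⟨k, -, rfl⟩, e⟩ := hg
  have e2 := tvV_conj k (vec 63)
  rw [show k.1 (vec 63) = vec 63 from e] at e2
  rw [TW, TW, ← map_inv, ← map_mul, ← map_mul, io_apply, ← tvV_conj,
    show k * (tvV (vec 63) * tvV w) * k⁻¹ = k * tvV (vec 63) * k⁻¹ * (k * tvV w * k⁻¹) by group, e2]

theorem WS_map {g : L2} (hg : g ∈ SW) {w : V} (hw : w ∈ WS) : g w ∈ WS := by
  refine ⟨?_, ?_, fun a => hw.2.2 ?_⟩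
  · obtain ⟨k, hk, rfl⟩ := hg.1
    exact G0_map_mem (K0_le hk) hw.1
  · rw [← hw.2.1, ← KK_hh hg.1 w]; exact congrArg _ hg.2.symm
  · have := g.injective (SW_FV hg a)
    rwa [this] at a

theorem TW_smul {c : F4} (hc : c ≠ 0) (w : V) : TW (c • w) = TW w := by rw [TW, tvV_smul w hc, TW]

theorem TW_ne {w : V} (hw : w ∈ WS) : TW w ≠ 1 := fun e => by
  obtain ⟨c, -, a⟩ := tvV_inj (cs_subset (by norm_num) hw.1) (cs_subset (by norm_num) vec63_mem)
    ((eq_inv_of_mul_eq_one_right (io_injective (e.trans (map_one io).symm))).trans (tvV_inv _))
  exact hw.2.2 ⟨c, a.symm⟩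

theorem rep_cons {k : UU} {l : List ℕ} {a : ℕ} (r : Rep (io k) (tvW l)) (h : a < 4096) (ha : vec a ∈ cs 5) :
    Rep (io (tvV (vec a) * k)) (tvW (a :: l)) := rep_of_basis fun i hi => by
  rw [tvW_cons, col_mk (fun j _ => tvN_lt h (col_lt ..)) i hi, vec_tvN h, map_mul, LinearEquiv.mul_apply, r.basis hi,
    io_apply, tvV_apply (iso5 ha)]

theorem rep_TW {n : ℕ} (h : n < 4096) (hn : vec n ∈ cs 5) : Rep (TW (vec n)) (tvW [63, n]) := by
  have r : Rep (io 1) (tvW []) := by rw [map_one]; exact rep_one
  have k : ∀ {a b c : UU} {m : ℕ}, b = c → Rep (io (a * b)) m → Rep (io (a * c)) m := fun e => e ▸ id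
  exact k (mul_one _) (rep_cons (rep_cons r h hn) (by norm_num) vec63_mem)

def inW (n : ℕ) : Bool := band (tb 5 (clN n)) (band (Nat.beq (hN n 63) 0) (bnot (memL n [0, 63, 4032, 4095])))

theorem vec_mem_FV {n : ℕ} (hn : n < 4096) : vec n ∈ FV (vec 63) ↔ memL n [0, 63, 4032, 4095] = true := by
  rw [memL_eq_true]
  refine ⟨fun ⟨c, e⟩ => ?_, fun e => ?_⟩
  · obtain ⟨a, ha, rfl⟩ := (by decide : ∀ c : F4, ∃ a < 4, f4 a = c) c
    rw [← vec_inj (sm_spec ha (by norm_num)).1 hn ((sm_spec ha (by norm_num)).2.trans e)]
    clear e; revert a; decide
  · obtain ⟨a, ha, rfl⟩ := (by decide : ∀ n ∈ [0, 63, 4032, 4095], ∃ a < 4, sm a 63 = n) n e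
    exact ⟨_, (sm_spec ha (by norm_num)).2.symm⟩

theorem vec_mem_WS {n : ℕ} (hn : n < 4096) : vec n ∈ WS ↔ inW n = true := by
  simp only [WS, Set.mem_setOf_eq, inW, band_eq_true, bnot_eq_true, beq_iff, vec_mem_cs hn, hh_vec_eq_zero,
    vec_mem_FV hn, Bool.not_eq_true]

theorem inSW {l : List ℕ} (h : band (okW l) (band (evn l) (Nat.beq (app (tvW l) 63) 63)) = true) : InH SW (tvW l) := by
  simp only [band_eq_true, beq_iff] at h
  obtain ⟨g, hg, r⟩ := inK_tvW h.1 h.2.1
  exact ⟨g, ⟨hg, r.apply (by norm_num) h.2.2⟩, r⟩

theorem W_chk : orbChk [tvW [9, 1899], tvW [1963, 34], tvW [6, 1773]] (nat_lit 0x2a0000000000000019000000300000000000000000000000220000002a000000000000003a000000000000000000000000000000000000000000000000000000000000000000000000000000000000000000000000000000000000000000000000000000000000000000000000000000000000000000000000000000000028000000000000002a00000000003a000000000000000000200000000000300000000000000031000000000000000000000000000000000000000000000000390000000000000032000000000000300000000000000000290000000000003100000000000000290000000000000000000000000000000000000000000000000000000000000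0000000000000000000000000000000000000000000000000000000000000000000000000000000000000000000000000000000000000000000000000000000000000000000000000000000000000000000000000000000000000000000000000000000000000000000000000000000000000000000003000000000000000000000003100290000000000000000000000000031003a00000000000000000000003900000000000000000000000000000000000000002a00000000000000000000002900002800000000000000000000000032000022000000000000000000000029000000000000000000000000000000000000000000000000000000000000000000000000000000000000000000000000000000000000000000000000000000000000000000000000000000000000000000001900000000000000000000000000322a000000000000000000000000000019110000000000000000000000000038000000000000000000000000000000000000000000000000000000000000000000000000000000000000000000000000000000000000000000000000000000000000000000000000000000000000000000000000000000000000000000000000000000000000000000000000000000000000000000000000000000000000000000000000000000000000000000000000000000000000000000000000000038000000000000000000000000000000000000000000000000000000000000000000000000000000000000000000000029000000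000000000000000000000000000000000000000000000000000000000000000000000000000000000000000000000000000000000000000000000000000000000000004000000029002200000000000000000000000000000000000000000032002a00000022000000000000000000000000000000000000000000000000000000003a00000009000032000000000000000000000000000000000000000018000032000000110000000000000000000000000000000000000000000000000000000000000000000000000000000000000000000000000000000000000000000000000000000000000000000000000000000000000000000000000000000000002900000000001a2900000000000000000000000000000000000000000000222900000000001a000000000000000000000000000000000000000000000000000000000000000000000000000000000000000000000000000000000000000000000000000000000000000000000000000000000000000000000000000000000000000000000000000000000000000000000000000000000000000000000000000000000000000000000000000000000000000000000000000000000000000000000000000000000000000000000000000000000000420000000000000000000000000000000000000000000000000000000000000000000000000000002100000020003a3900000000000000000000000000000000000000000000000000002028003000000000000000000000000000000000000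0000000000000000000000000000000000000000000000000000000000000000000000000000000000000000000000000000000000000000000000000000000000000000000000000000000000000000000000000000000000000000000000000000000000000000000000000000000000000000000000000000000000000000000000000000000000000000000000000000000000000000000000000000000000000000030000000000000000000000000000000000000000000000000000000000000000000000008000000000000000000000000000000000000000000000000000000000000000000000000000000000000000000000000000000000000000000000000000000000000000000000000000000000000000000000000000000000000000000320000000000000000000000000000000000000000000000000000000000000000000a000000000000000000000000000000000000000000000000000000000000390000000000000000000000000000000000000000000000000000000000000000220000000000000000000000000000000000000000000000000000000000000000000000000000000000000000000000000000000000000000000000000000000000000000000000000000000000000000000000000000000000000000000000000000000000000000000000000000000000000000000000000000000000000000000000000000320000003900310000000000220011000000390000000000000000000000000000000000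0000000000000000000000000000000000000000000000000000002a00000032000032000000003800002100000030000000000000000000000000000000000000000000000000000000000000000000000000000000000000000000000000000000000000000000000000000000000000000000000000000000000000000000000000000000000000000000000000000000000000000000002100000000003129000000000000322a0000000000390000000000000000000000000000000000000000000000000000000000000000000000000000000000000000000000000000000000000000000000000000000000000000000000000000000000000000000000000000000000000000000000000000000000000000000000000000000000000000000000000000000000000000000000000000000000000000000000000000000000000000000000000000000000000000000000000000000000000000000000000000000000000000000000000000000000000000000000000000310000000000000000000000000000000000000000000000210000003a0031300000000000000000000041220020000000000000000000000000000000000000000000000000000000000000000000000000000000000000000000000000000000000000000000000000000000000000000000000000000000000000000000000000000000000000000000000000000000000000000000000000000000000000000000000000000000000000000000000000000000000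00000000000000000000000000000000000000000000000000000000000000000000000000000000000000000000000000000000000000000000000000000000000000000000000000000000000420000000000000000000000000000000000000042000000000000000000000000000000000000000000000000000000000000000000000000000000000000000000000000000000000000000000000000000000000000000000000000000000000000000000000000000000000000000000000000000000000000000000000000003100000000000000000000000000000000003100000000000000000000000000000000000000000000000000000000000000000000000000000000000000000000390000000000000000000000000000000032000000000000000000000000000000000000000000000000000000000000000000000000000000000000000000000000000000000000000000000000000000000000002900323800000021002a00000000000000000000000000000000000000000000000000000000000000000000000000000000000000000000000000000000000000000000000000000000000000000000000000000000000000000000000000000000000000000000000000000000000000000000000000000000000000000000000000000000000000000000000000000000000000000000000000000000000000000000000000000000000000000000000000000000000000000000000000000000000000000000000000000000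0000000000000000000000000000000000000000000000000000000000000000000028000000000000000000000018000000000000000000000000000000000000000000000000000000000000000000000000000000000000000000000000000000000000000000000000000000000000000000000000000000000000000000000000000000000000000000000000000000000000000000000000000000000000000000390000000000000000001800000000000000000000000000000000000000000000000000000000000000000000000000000000000000000000000000000000000031000000000000000029000000000000000000000000000000000000000000000000000000000000000000000000000000000000000000000000000000000000000000000000000000000000000000000000000000000000000000000000000000000000000000000000000000000000000000000000000000000000000000000000000000000000000000000000000000000000000000000000000000000000000000000000000000000000000000000000000000000000000000000000000000000030000000000010000000000000000000000000000000000000000000000000000000000000000000000000000000000000000000000000000000000000000000003a000000001a000000000000000000000000000000000000000000000000000000000000000000000000000000000000000000000000000000000000000000000000000000000000000000000000000000000000000000000000000000000000000000000000000000000000000000000000000000000000000000000000000000002a00001a00000000000000000000000000000000000000000000000000000000000000000000000000000000000000000000000000000000000000000000000000000000000000000000000000000000000000000000000000000000000000000000000000000000000000000000000000000000000000000000000000000000000000000000000000000000000000000000003800000000000000200000002a002122000000000000000030000000420031320000000032003131000031290029000000)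
    (fun n => bif' (inW n) 1014 n) = true := by decide +kernel

theorem WS_trans {w : V} (hw : w ∈ WS) : ∃ g ∈ SW, g w = vec 1014 := by
  obtain ⟨n, hn, rfl⟩ := exists_vec w
  have := orbChk_spec (H := SW) (fun c hc => by
    simp only [List.mem_cons, List.not_mem_nil, or_false] at hc
    rcases hc with rfl | rfl | rfl <;> exact inSW (by decide +kernel)) W_chk hn
  rwa [(vec_mem_WS hn).1 hw] at this

/-- the line of a point -/
def wp (p : ℕ) : ℕ := pick (nat_lit 0x7b97b57b37ad7a777a77676e76b7676f66f56ee6ed6e75fc5fa5f95ee5eb3fc3fa3f93f53f303002802402202101801401201100c00a0090060050037ab7736fc5ed3f6) (nat_lit 12) (nat_lit 4095) (p / 4)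

theorem wp_chk : ∀ p < 180, wp p < 4096 ∧ inW (wp p) = true ∧
    ∀ q < 180, ∀ a < 4, sm a (wp q) = wp p → q / 4 = p / 4 := by decide +kernel

theorem wp_mem {p : ℕ} (hp : p < 180) : vec (wp p) ∈ WS := (vec_mem_WS (wp_chk p hp).1).2 (wp_chk p hp).2.1

theorem wp_idx : allP (fun n => bimp (inW n) (anyR (fun j => anyR (fun a => Nat.beq (sm a (wp (4 * j))) n) 4) 45)) 12 0 =
    true := by decide +kernel

theorem exists_wp {w : V} (hw : w ∈ WS) (l : F4) : ∃ p < 180, TW (vec (wp p)) = TW w ∧
    f4 (p % 4) • vec (wp p) = l • w := by
  obtain ⟨n, hn, rfl⟩ := exists_vec w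
  obtain ⟨j, hj, e⟩ := anyR_eq_true.1 (bimp_eq_true.1 (allP_zero wp_idx n hn) ((vec_mem_WS hn).1 hw))
  obtain ⟨a, ha, e⟩ := anyR_eq_true.1 e
  have e1 := (sm_spec ha (wp_chk (4 * j) (by omega)).1).2
  rw [beq_iff.1 e] at e1
  obtain ⟨b, hb, e2⟩ := (by decide : ∀ c : F4, ∃ a < 4, f4 a = c) (l * f4 a)
  have e3 : wp (4 * j + b) = wp (4 * j) := by rw [wp, wp, show (4 * j + b) / 4 = 4 * j / 4 by omega]
  refine ⟨4 * j + b, by omega, ?_, ?_⟩
  · rw [e3, e1, TW_smul]
    rintro a0
    exact hw.2.2 (by rw [e1, a0, zero_smul]; exact zero_mem _)
  · rw [e3, e1, smul_smul, ← e2, show (4 * j + b) % 4 = b by omega]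

def tq (g u : ℕ) : ℕ := Nat.xor u (sm (hN u (wp g)) (wp g))

theorem act_Q : ∀ g < 6, ∀ p < 180, (∃ a < 4, a ≠ 0 ∧ sm a (wp (XQ.act g p)) = tq (XQ.pt g) (wp p)) ∧
    Nat.xor (sm (p % 4) (tq (XQ.pt g) (wp p))) (sm (hN (sm (XQ.pt g % 4) (wp (XQ.pt g))) (tq (XQ.pt g) (wp p)))
      (tq (XQ.pt g) (wp p))) = sm (XQ.act g p % 4) (wp (XQ.act g p)) := by decide +kernel

theorem tq_spec {g u : ℕ} (hg : g < 180) (hu : vec u ∈ WS) : vec (tq g u) = TW (vec (wp g)) (vec u) := by
  rw [TW_apply (wp_mem hg) hu.2.1, tq, vec_xor, (sm_spec (hN_lt ..) (wp_chk g hg).1).2, hh_vec]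

theorem T5_chk : band (Nat.beq (sumR (fun n => bif' (band (blt' n 128) (fx n 63)) 1 0) 256) 64)
    (allR (fun n => bimp (band (fx n 63) (Nat.beq (mul n n) 0)) (anyL (fun l => force (tvW l) fun g =>
      anyR (fun a => Nat.beq (cmul g (tc n)) (cmul (tc a) g)) 16) [[], [1014, 1013], [1014, 3]])) 128) = true := by
  decide +kernel

theorem el_KK {n : ℕ} (hn : n < 256) : el n ∈ KK ↔ n < 128 := by
  refine ⟨fun H => not_le.1 fun h1 => ?_, (el_spec hn).2.2.1⟩
  have := KK_lin H om4 (vec 1)
  rw [el_semi h1 hn, om_add, add_eq_left, LinearEquiv.map_eq_zero_iff] at this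
  exact absurd this (by decide)

/-- Involutions of the stabilizer are conjugate into `A0`. -/
theorem SW_inv {g : L2} (hg : g ∈ SW) (h2 : g * g = 1) : ∃ k ∈ SW, ∃ a < 16, k * g * k⁻¹ = el a := by
  have c := band_eq_true.1 T5_chk
  have h1 : Nat.card ↥(T0 ⊓ SW) = 64 := (ncard_eq_sumR (fun m hm n hn => el_inj hm hn) (T0 ⊓ SW : Subgroup L2) _
    (fun _ a => a.1) fun n hn => by
      rw [band_eq_true, blt'_eq_true, fx_iff hn (by norm_num), ← el_KK hn]
      exact ⟨fun a => a.2, fun a => ⟨⟨n, hn, rfl⟩, a⟩⟩).trans (beq_iff.1 c.1)
  obtain ⟨k, hk, e⟩ := sylow_Jsub Nat.prime_two (P := T0 ⊓ SW) (sylow_mk inf_le_right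
    (pGrp_of_card_eq_pow Nat.prime_two (k := 6) h1) (by
      have := card_mul_relIndex (inf_le_right (a := T0) (b := SW))
      rw [h1, card_SW] at this
      omega)) (pGrp_of_forall_pow (H := zpowers g) (k := 1) Nat.prime_two (by
        rintro _ ⟨m, rfl⟩
        simp only [pow_one]
        rw [← zpow_natCast, ← zpow_mul, mul_comm, zpow_mul, zpow_natCast, pow_two, h2, one_zpow]))
      ((zpowers_le).2 hg)
  obtain ⟨⟨n, hn, e1⟩, e2⟩ := e (conj_mem_conjg k (mem_zpowers g))
  rw [← e1] at e2
  have h3 := (el_KK hn).1 e2.1
  have c2 := allR_eq_true.1 c.2 n h3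
  simp only [force_eq, bimp_eq_true, band_eq_true, beq_iff, anyL_eq_true, anyR_eq_true] at c2
  obtain ⟨l, hl, a, ha, a1⟩ := c2 ⟨(fx_iff hn (by norm_num)).2 e2.2, (el_eq_one (mul_lt hn hn)).1 (by
      rw [← el_mul hn hn, e1, conj_mul, h2]; group)⟩
  obtain ⟨m, hm, r⟩ := inSW ((by decide +kernel : ∀ l ∈ [[], [1014, 1013], [1014, 3]],
    band (okW l) (band (evn l) (Nat.beq (app (tvW l) 63) 63)) = true) l hl)
  refine ⟨m * k, mul_mem hm hk, a, ha, ?_⟩
  have := (rep_el (show a < 256 by omega)).mul r
  rw [← a1] at this
  replace this := (r.mul (rep_el hn)).eq this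
  rw [← mul_inv_eq_iff_eq_mul, e1] at this
  rw [← this]; group

def CW : List (List (List ℕ)) := [[], [[6, 63], [6, 1517]], [[5, 63], [5, 1014]], [[63, 80], [63, 701]], [[3, 63], [3, 1014]], [[63, 96], [63, 827]], [[63, 73], [63, 631]], [[63, 72], [63, 511]], [[12, 63], [12, 1014]], [[63, 67], [63, 253]], [[63, 97], [63, 443]], [[63, 81], [63, 445]], [[63, 68], [63, 382]], [[63, 66], [63, 254]], [[63, 69], [63, 379]], [[10, 63], [10, 1014]]]

theorem CW_chk : allR (fun a => force (tc a) fun c => band (allL (fun l => band (okW l) (band (evn l)
    (force (tvW l) fun g => Nat.beq (cmul g c) (cmul c g)))) (CW.getD a [])) (bor (Nat.beq a 0)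
      (allP (fun u => bimp (band (Nat.beq (app c u) u) (Nat.beq (hN u u) 0)) (bor (inD u) (anyL (fun l =>
        force (app (tvW l) u) fun m => band (inD m) (allR (fun d => Nat.beq (cn (di m + 64 * d + 128 * a)) 6) 2))
          (CW.getD a [])))) 12 0))) 16 = true := by decide +kernel

theorem CW_spec {a : ℕ} (ha : a < 16) (h0 : a ≠ 0) {u : V} (h1 : el a u = u) (h2 : hh u u = 0) (h3 : u ∉ HX) :
    ∃ g ∈ KK, g * el a = el a * g ∧ ∃ k < 64, g u = vec (dv k) ∧ ∀ d < 2, cn (k + 64 * d + 128 * a) = 6 := by
  obtain ⟨n, hn, rfl⟩ := exists_vec u
  have c := allR_eq_true.1 CW_chk a ha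
  rw [force_eq, band_eq_true, bor_eq_true, beq_iff] at c
  have r := rep_el (show a < 256 by omega)
  have c0 := allP_zero (c.2.resolve_left h0) n hn
  simp only [force_eq, bimp_eq_true, band_eq_true, bor_eq_true, beq_iff, anyL_eq_true, allR_eq_true] at c0
  obtain ⟨l, hl, e⟩ := (c0 ⟨(r.apply_iff hn hn).1 h1, (hh_vec_eq_zero ..).1 h2⟩).resolve_left (mt vec_mem_HX.2 h3)
  have c1 := allL_eq_true.1 c.1 l hl
  simp only [force_eq, band_eq_true, beq_iff] at c1
  obtain ⟨g, hg, r'⟩ := inK_tvW c1.1 c1.2.1
  have c2 := allP_zero dv_chk _ (app_lt (tvW l) n)
  simp only [bimp_eq_true, band_eq_true, beq_iff, blt'_eq_true] at c2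
  have c3 := r.mul r'
  rw [← c1.2.2] at c3
  exact ⟨g, hg, (r'.mul r).eq c3, _, (c2 e.1).2, by rw [(c2 e.1).1, r' n hn], e.2⟩

theorem Q0_chk : allP (fun u => bimp (band (tb 26 (clN u)) (Nat.beq (hN u 63) 0))
    (anyL (fun a => tb 26 (clN (Nat.xor u a))) [63, 4032, 4095])) 12 0 = true := by decide +kernel

/-- the base points, in cocode coordinates -/
def bs (p : ℕ) : ℕ := pick (nat_lit 0xf67e77d77c08d717a3ac0043889d1da4027a4a88b94017c2c4478c0) (nat_lit 11) (nat_lit 2047) p

def zc (n : ℕ) : Bool := tb (nat_lit 106) (cn (tw 2 n))

def dq (n : ℕ) : Bool := band (zc n) (band (bnot (zc (Nat.xor n 7))) (bnot (zc (Nat.xor n 56))))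

theorem dq_chk : band (Nat.beq (sumR (fun n => bif' (dq n) 1 0) 2048) 21) (allP (fun n => bimp (dq n)
    (bor (Nat.beq n 64) (anyR (fun p => Nat.beq (bs p) n) 20))) 11 0) = true := by decide +kernel

theorem bs_chk : ∀ p < 20, bs p < 2048 ∧ tc (tw 2 (bs p) / 128) = tvW [63, wp p] ∧
    Nat.xor (dv (tw 2 (bs p) % 64)) (om (dv (tw 2 (bs p) % 64))) = sm (p % 4) (wp p) ∧
    zc (Nat.xor (bs p) 64) = false ∧ (∃ g < 24, 4 ≤ g ∧ sg (7 + 2 ^ g) = bs p) ∧ ∀ q < 20, p ≠ q → ∃ r < 20,
      zc (Nat.xor (Nat.xor (Nat.xor 64 (bs p)) (bs q)) (bs r)) = true := by decide +kernel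

theorem realizeEqns_U6Wv : True := by
  have := @CA.U6.WS.eq_1
  have := @CA.U6.WS.eq_def
  have := @CA.U6.WS.congr_simp
  have := @CA.U6.TW.eq_1
  have := @CA.U6.TW.eq_def
  have := @CA.U6.TW.congr_simp
  have := @CA.U6.dq.eq_1
  have := @CA.U6.dq.eq_def
  have := @CA.U6.dq.congr_simp
  have := @CA.U6.tq.eq_1
  have := @CA.U6.tq.eq_def
  have := @CA.U6.tq.congr_simp
  have := @CA.U6.CW.eq_1
  have := @CA.U6.CW.eq_def
  have := @CA.U6.CW.congr_simp
  have := @CA.U6.bs.eq_1
  have := @CA.U6.bs.eq_def
  have := @CA.U6.bs.congr_simp
  have := @CA.U6.zc.eq_1
  have := @CA.U6.zc.eq_def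
  have := @CA.U6.zc.congr_simp
  have := @CA.U6.wp.eq_1
  have := @CA.U6.wp.eq_def
  have := @CA.U6.wp.congr_simp
  have := @CA.U6.SW.eq_1
  have := @CA.U6.SW.eq_def
  have := @CA.U6.SW.congr_simp
  have := @CA.U6.inW.eq_1
  have := @CA.U6.inW.eq_def
  have := @CA.U6.inW.congr_simp
  trivial

end CA.U6
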